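import Groth.Agent.Ega2.RelAmpRows
import Groth.Agent.Ega2.H275.RelDesc
import Groth.Agent.EGA2.K30.AmpleLoc
import Groth.Agent.Cons9.K118.IndLocus
import Groth.Agent.Ega3B.LimInvK1
import Groth.Agent.CalgB.AmpleRel
import Groth.Prelude.Def_RelProj

/-!
# Ind-constructibility of the locus where the fibre is relatively ample / quasi-projective

* `isRelAmple_of_isPullback`: base change of relative ampleness, square form.
* `AmpDesc`: relative ampleness descends along cofiltered limits of qcqs schemes with affine transition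
  maps (one-object form).
* `isIndConstructible_ampLocus`, `descends_isQuasiProjective`.
-/

set_option autoImplicit false
universe u
open CategoryTheory AlgebraicGeometry CategoryTheory.Limits Topology Opposite

namespace K119.RelAmpInd

open Groth.Agent.Ega43.Locus Groth.Agent.Ega43.LocusAff Groth.Agent.Ega43.ResSysSch Groth.Agent.Ega43.ResSys
open Groth.Agent.Ega4fib.H121.ProConsBasic Groth.Agent.Ega4fib.H121.ProConsScheme
open Groth.Agent.Ega2 Groth.Agent.Ega43.LimDesc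

variable {X Y S T : Scheme.{u}}

/-- The pullback of a module along a composite, up to isomorphism. -/
theorem nonempty_pullback_comp {A B C : Scheme.{u}} {a : A ⟶ B} {b : B ⟶ C} {c : A ⟶ C} (h : a ≫ b = c)
    (L : C.Modules) : Nonempty ((Scheme.Modules.pullback a).obj ((Scheme.Modules.pullback b).obj L) ≅
      (Scheme.Modules.pullback c).obj L) := by
  subst h
  exact ⟨(Scheme.Modules.pullbackComp a b).app L⟩

/-- Base change of relative ampleness, square form. -/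
theorem isRelAmple_of_isPullback {X' Y' : Scheme.{u}} {f : X ⟶ Y} {f' : X' ⟶ Y'} {a : X' ⟶ X} {b : Y' ⟶ Y}
    (h : IsPullback a f' f b) {L : X.Modules} (hL : RelAmple.IsRelAmple f L) :
    RelAmple.IsRelAmple f' ((Scheme.Modules.pullback a).obj L) := by
  have := hL.1
  have h1 := RelAmp.relAmple_baseChange f b L hL
  have h2 : RelAmple.IsRelAmple (h.isoPullback.hom ≫ pullback.snd f b)
      ((Scheme.Modules.pullback h.isoPullback.hom).obj
        ((Scheme.Modules.pullback (pullback.fst f b)).obj L)) :=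
    H275.RelDesc.isRelAmple_pullback _ _ h1
  obtain ⟨e⟩ := nonempty_pullback_comp h.isoPullback_hom_fst L
  have h3 := K30.AmpleLoc.isRelAmple_of_iso e h2
  rwa [h.isoPullback_hom_snd] at h3

/-- Relative ampleness descends along cofiltered limits (the interface for row S4846). -/
def AmpDesc : Prop :=
  ∀ {I : Type u} [SmallCategory I] [IsCofiltered I]
    (D : I ⥤ Scheme.{u}) (c : Cone D) (_ : IsLimit c)
    [∀ (i j : I) (f : i ⟶ j), IsAffineHom (D.map f)] (i₀ : I) [CompactSpace (D.obj i₀)]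
    {X₀ Y₀ : Scheme.{u}} (f₀ : X₀ ⟶ Y₀) (g₀ : Y₀ ⟶ D.obj i₀)
    [LocallyOfFinitePresentation g₀] [QuasiCompact g₀] [QuasiSeparated g₀]
    [LocallyOfFinitePresentation (f₀ ≫ g₀)] [QuasiCompact (f₀ ≫ g₀)] [QuasiSeparated (f₀ ≫ g₀)]
    (L₀ : X₀.Modules) (_ : PicF.IsInvertible L₀)
    {X Y : Scheme.{u}} (f : X ⟶ Y) (g : Y ⟶ c.pt) (qY : Y ⟶ Y₀) (qX : X ⟶ X₀)
    (_ : IsPullback qY g g₀ (c.π.app i₀)) (_ : IsPullback qX f f₀ qY),
    RelAmple.IsRelAmple f ((Scheme.Modules.pullback qX).obj L₀) →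
      ∃ (j : I) (φ : j ⟶ i₀) (Xj Yj : Scheme.{u}) (fj : Xj ⟶ Yj) (gj : Yj ⟶ D.obj j) (pY : Yj ⟶ Y₀)
        (pX : Xj ⟶ X₀), IsPullback pY gj g₀ (D.map φ) ∧ IsPullback pX fj f₀ pY ∧
          RelAmple.IsRelAmple fj ((Scheme.Modules.pullback pX).obj L₀)

/-- Quasi-projectivity as a property of morphisms. -/
def QP : MorphismProperty Scheme.{u} := fun _ _ f => RelProj.IsQuasiProjective f

instance : QP.{u}.IsStableUnderBaseChange where
  of_isPullback {X Y Y' S f g f' g'} sq h := by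
    obtain ⟨h1, h2, L, hL⟩ := h
    refine ⟨MorphismProperty.of_isPullback sq h1, MorphismProperty.of_isPullback sq h2, _,
      isRelAmple_of_isPullback sq hL⟩

theorem isInvertible_of_isRelAmple {f : X ⟶ Y} {L : X.Modules} (h : RelAmple.IsRelAmple f L) :
    PicF.IsInvertible L :=
  Groth.Agent.CalgB.AmpleRel.isInvertible_of_isRelAmple h

/-- Quasi-projectivity descends along limits. -/
theorem descRow_QP (H : AmpDesc.{u}) : DescRow QP.{u} := by
  intro I _ _ D c hc _ i₀ _ _ X₀ Y₀ f₀ g₀ _ _ _ _ _ _ X Y f g qY qX hY hX hf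
  obtain ⟨-, -, L, hL⟩ := hf
  have : LocallyOfFinitePresentation f₀ := locallyOfFinitePresentation_of_comp f₀ g₀
  have hXS : IsPullback qX (f ≫ g) (f₀ ≫ g₀) (c.π.app i₀) := hX.paste_vert hY
  have : CompactSpace X₀ := QuasiCompact.compactSpace_of_compactSpace (f₀ ≫ g₀)
  have : QuasiSeparatedSpace X₀ := quasiSeparatedSpace_of_quasiSeparated (f₀ ≫ g₀)
  let DX := bc D (f₀ ≫ g₀)
  let cX := bcCone D c (f₀ ≫ g₀)
  let e : X ≅ cX.pt := IsPullback.isoIsPullback _ _ hXS.flip (bcCone_isPullback₀ D c (f₀ ≫ g₀))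
  have he1 : e.hom ≫ bcPtFst D c (f₀ ≫ g₀) = f ≫ g := IsPullback.isoIsPullback_hom_fst _ _ _ _
  have he2 : e.hom ≫ bcPtSnd D c (f₀ ≫ g₀) = qX := IsPullback.isoIsPullback_hom_snd _ _ _ _
  have hinv := isInvertible_of_isRelAmple hL
  have hLe : PicF.IsInvertible ((Scheme.Modules.pullback e.inv).obj L) :=
    Groth.Agent.Fdesc.LocGen.isInvertible_pullback _ hinv
  have : ∀ {i j : Over i₀} (a : i ⟶ j), IsAffineHom (DX.map a) := fun a => bc_isAffineHom D (f₀ ≫ g₀) a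
  obtain ⟨φ, M, hM, ⟨eM⟩⟩ := Groth.Agent.Ega3B.LimInv.exists_invertible DX cX
    (bcIsLimit D c (f₀ ≫ g₀) hc) hLe
  -- the stage
  let X₁ := (bc D (f₀ ≫ g₀)).obj φ
  let Y₁ := (bc D g₀).obj φ
  let g₁ : Y₁ ⟶ D.obj φ.left := bcFst D g₀ φ
  have hY₁ : IsPullback (bcSnd D g₀ φ) g₁ g₀ (D.map φ.hom) := (bc_isPullback₀ D g₀ φ).flip
  have hX₁S : IsPullback (bcSnd D (f₀ ≫ g₀) φ) (bcFst D (f₀ ≫ g₀) φ) (f₀ ≫ g₀) (D.map φ.hom) :=
    (bc_isPullback₀ D (f₀ ≫ g₀) φ).flip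
  let f₁ : X₁ ⟶ Y₁ := hY₁.lift (bcSnd D (f₀ ≫ g₀) φ ≫ f₀) (bcFst D (f₀ ≫ g₀) φ)
    (by rw [Category.assoc]; exact hX₁S.w)
  have hf₁ : f₁ ≫ g₁ = bcFst D (f₀ ≫ g₀) φ := hY₁.lift_snd _ _ _
  have hX₁ : IsPullback (bcSnd D (f₀ ≫ g₀) φ) f₁ f₀ (bcSnd D g₀ φ) := by
    refine IsPullback.of_bot (v₂₁ := g₁) (v₂₂ := g₀) (h₃₁ := D.map φ.hom) ?_ (hY₁.lift_fst _ _ _).symm hY₁
    rw [hf₁]
    exact hX₁S
  let q₁ : X ⟶ X₁ := e.hom ≫ cX.π.app φ
  have hq₁ : q₁ ≫ bcSnd D (f₀ ≫ g₀) φ = qX := by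
    rw [Category.assoc]
    exact (congrArg (e.hom ≫ ·) (bcCone_π_snd D c (f₀ ≫ g₀) φ)).trans he2
  have hq₁' : q₁ ≫ bcFst D (f₀ ≫ g₀) φ = (f ≫ g) ≫ c.π.app φ.left := by
    rw [Category.assoc]
    refine (congrArg (e.hom ≫ ·) (bcCone_π_fst D c (f₀ ≫ g₀) φ)).trans ?_
    rw [← Category.assoc, he1]
  let r₁ : Y ⟶ Y₁ := hY₁.lift qY (g ≫ c.π.app φ.left) (by rw [hY.w, Category.assoc, c.w])
  have hr₁ : r₁ ≫ bcSnd D g₀ φ = qY := hY₁.lift_fst _ _ _
  have hr₁' : r₁ ≫ g₁ = g ≫ c.π.app φ.left := hY₁.lift_snd _ _ _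
  have hYr : IsPullback r₁ g g₁ (c.π.app φ.left) := by
    refine IsPullback.of_right (h₁₂ := bcSnd D g₀ φ) (v₁₃ := g₀) (h₂₂ := D.map φ.hom) ?_ hr₁' hY₁
    rw [hr₁, c.w]
    exact hY
  have hXr : IsPullback q₁ f f₁ r₁ := by
    refine IsPullback.of_right (h₁₂ := bcSnd D (f₀ ≫ g₀) φ) (v₁₃ := f₀) (h₂₂ := bcSnd D g₀ φ) ?_ ?_ hX₁
    · rw [hq₁, hr₁]
      exact hX
    · have k1 : f₁ ≫ bcSnd D g₀ φ = bcSnd D (f₀ ≫ g₀) φ ≫ f₀ := hY₁.lift_fst _ _ _
      refine hY₁.hom_ext ?_ ?_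
      · exact (Category.assoc q₁ f₁ _).trans ((congrArg (q₁ ≫ ·) k1).trans
          (((Category.assoc q₁ _ f₀).symm.trans (congrArg (· ≫ f₀) hq₁)).trans
            (hX.w.trans ((congrArg (f ≫ ·) hr₁.symm).trans (Category.assoc f r₁ _).symm))))
      · exact (Category.assoc q₁ f₁ _).trans ((congrArg (q₁ ≫ ·) hf₁).trans (hq₁'.trans
          ((Category.assoc f g _).trans ((congrArg (f ≫ ·) hr₁'.symm).trans
            (Category.assoc f r₁ _).symm))))
  have hLM : Nonempty (L ≅ (Scheme.Modules.pullback q₁).obj M) := by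
    obtain ⟨e1⟩ := nonempty_pullback_comp (a := e.hom) (b := cX.π.app φ) (c := q₁) rfl M
    obtain ⟨e2⟩ := nonempty_pullback_comp (a := e.hom) (b := e.inv) (c := 𝟙 X) e.hom_inv_id L
    exact ⟨((Scheme.Modules.pullbackId X).app L).symm ≪≫ e2.symm ≪≫
      (Scheme.Modules.pullback e.hom).mapIso eM.symm ≪≫ e1⟩
  obtain ⟨eL⟩ := hLM
  have hL₁ : RelAmple.IsRelAmple f ((Scheme.Modules.pullback q₁).obj M) :=
    K30.AmpleLoc.isRelAmple_of_iso eL hL
  have : LocallyOfFinitePresentation g₁ := MorphismProperty.of_isPullback hY₁ inferInstance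
  have : QuasiCompact g₁ := MorphismProperty.of_isPullback hY₁ inferInstance
  have : QuasiSeparated g₁ := MorphismProperty.of_isPullback hY₁ inferInstance
  have hX₁S' : IsPullback (bcSnd D (f₀ ≫ g₀) φ) (f₁ ≫ g₁) (f₀ ≫ g₀) (D.map φ.hom) := by
    rw [hf₁]; exact hX₁S
  have : LocallyOfFinitePresentation (f₁ ≫ g₁) := MorphismProperty.of_isPullback hX₁S' inferInstance
  have : QuasiCompact (f₁ ≫ g₁) := MorphismProperty.of_isPullback hX₁S' inferInstance
  have : QuasiSeparated (f₁ ≫ g₁) := MorphismProperty.of_isPullback hX₁S' inferInstance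
  have : CompactSpace (D.obj φ.left) := QuasiCompact.compactSpace_of_compactSpace (D.map φ.hom)
  obtain ⟨j, ψ, Xj, Yj, fj, gj, pY, pX, h1, h2, h3⟩ :=
    H D c hc φ.left f₁ g₁ M hM f g r₁ q₁ hYr hXr hL₁
  have h2' : IsPullback (pX ≫ bcSnd D (f₀ ≫ g₀) φ) fj f₀ (pY ≫ bcSnd D g₀ φ) := h2.paste_horiz hX₁
  refine ⟨j, ψ ≫ φ.hom, Xj, Yj, fj, gj, pY ≫ bcSnd D g₀ φ, pX ≫ bcSnd D (f₀ ≫ g₀) φ, ?_, h2', ?_, h3.1, _, h3⟩
  · rw [D.map_comp]
    exact h1.paste_horiz hY₁
  · exact MorphismProperty.of_isPullback h2' (P := @LocallyOfFiniteType) inferInstance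

/-! ### The locus of relative ampleness of a fixed module -/

/-- The set of `s` such that `L_s` is ample relative to `f_s`. -/
def ampLocus (f : X ⟶ Y) (g : Y ⟶ S) (L : X.Modules) : Set S :=
  {s | RelAmple.IsRelAmple (bcMap f g (S.fromSpecResidueField s))
    ((Scheme.Modules.pullback (pullback.fst (f ≫ g) (S.fromSpecResidueField s))).obj L)}

/-- Invariance of relative ampleness under isomorphisms over the same object. -/
theorem isRelAmple_iff_of_isPullback {X₁ Y₁ X₂ Y₂ K : Scheme.{u}} {f : X ⟶ Y} {g : Y ⟶ S} {k : K ⟶ S}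
    {f₁ : X₁ ⟶ Y₁} {g₁ : Y₁ ⟶ K} {a₁ : X₁ ⟶ X} {b₁ : Y₁ ⟶ Y} (h₁ : IsPullback a₁ f₁ f b₁)
    (h₁' : IsPullback b₁ g₁ g k)
    {f₂ : X₂ ⟶ Y₂} {g₂ : Y₂ ⟶ K} {a₂ : X₂ ⟶ X} {b₂ : Y₂ ⟶ Y} (h₂ : IsPullback a₂ f₂ f b₂)
    (h₂' : IsPullback b₂ g₂ g k) (L : X.Modules) :
    RelAmple.IsRelAmple f₁ ((Scheme.Modules.pullback a₁).obj L) →
      RelAmple.IsRelAmple f₂ ((Scheme.Modules.pullback a₂).obj L) := by
  intro h
  let v : Y₂ ⟶ Y₁ := h₁'.lift b₂ g₂ h₂'.w
  have hv : v ≫ b₁ = b₂ := h₁'.lift_fst _ _ _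
  let u : X₂ ⟶ X₁ := h₁.lift a₂ (f₂ ≫ v) (by rw [Category.assoc, hv, h₂.w])
  have hu : u ≫ a₁ = a₂ := h₁.lift_fst _ _ _
  have hu' : u ≫ f₁ = f₂ ≫ v := h₁.lift_snd _ _ _
  have hsq : IsPullback u f₂ f₁ v := by
    refine IsPullback.of_right (h₁₂ := a₁) (v₁₃ := f) (h₂₂ := b₁) ?_ hu' h₁
    rw [hu, hv]
    exact h₂
  obtain ⟨e⟩ := nonempty_pullback_comp hu L
  exact K30.AmpleLoc.isRelAmple_of_iso e (isRelAmple_of_isPullback hsq h)

/-- Membership in `ampLocus`, computed with any pair of pullback squares. -/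
theorem mem_ampLocus_iff {f : X ⟶ Y} {g : Y ⟶ S} {L : X.Modules} {s : S} {X₁ Y₁ K : Scheme.{u}}
    {f₁ : X₁ ⟶ Y₁} {g₁ : Y₁ ⟶ K} {a₁ : X₁ ⟶ X} {b₁ : Y₁ ⟶ Y}
    (e : K ⟶ Spec (S.residueField s)) [IsIso e]
    (h₁ : IsPullback a₁ f₁ f b₁) (h₁' : IsPullback b₁ g₁ g (e ≫ S.fromSpecResidueField s)) :
    s ∈ ampLocus f g L ↔ RelAmple.IsRelAmple f₁ ((Scheme.Modules.pullback a₁).obj L) := by
  have h₂ := isPullback_bcMap f g (S.fromSpecResidueField s)
  have h₂' := IsPullback.of_hasPullback g (S.fromSpecResidueField s)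
  have h₁'' : IsPullback b₁ (g₁ ≫ e) g (S.fromSpecResidueField s) := by
    refine IsPullback.of_iso h₁' (Iso.refl _) (Iso.refl _) (asIso e) (Iso.refl _) ?_ ?_ ?_ ?_ <;> simp
  exact ⟨isRelAmple_iff_of_isPullback h₂ h₂' h₁ h₁'' L, isRelAmple_iff_of_isPullback h₁ h₁'' h₂ h₂' L⟩

/-- The locus after an open immersion of the base. -/
theorem ampLocus_bcMap_openImmersion (f : X ⟶ Y) (g : Y ⟶ S) (L : X.Modules) (t : T ⟶ S)
    [IsOpenImmersion t] :
    ampLocus (bcMap f g t) (pullback.snd g t)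
      ((Scheme.Modules.pullback (pullback.fst (f ≫ g) t)).obj L) = t ⁻¹' (ampLocus f g L) := by
  ext x
  let f' := bcMap f g t
  let g' := pullback.snd g t
  have h0 : IsIso (t.residueFieldMap x) := inferInstance
  let e : Spec (T.residueField x) ⟶ Spec (S.residueField (t x)) := Spec.map (t.residueFieldMap x)
  have he : IsIso e := inferInstance
  have hY := IsPullback.of_hasPullback g t
  have hX := isPullback_bcMap f g t
  have h2 : IsPullback (pullback.fst g' (T.fromSpecResidueField x) ≫ pullback.fst g t)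
    (pullback.snd g' (T.fromSpecResidueField x)) g (e ≫ S.fromSpecResidueField (t x)) := by
    rw [Scheme.Hom.SpecMap_residueFieldMap_fromSpecResidueField]
    exact (IsPullback.of_hasPullback g' (T.fromSpecResidueField x)).paste_horiz hY
  have h3 : IsPullback (pullback.fst (f' ≫ g') (T.fromSpecResidueField x) ≫ pullback.fst (f ≫ g) t)
      (bcMap f' g' (T.fromSpecResidueField x)) f
      (pullback.fst g' (T.fromSpecResidueField x) ≫ pullback.fst g t) :=
    (isPullback_bcMap f' g' (T.fromSpecResidueField x)).paste_horiz hX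
  have h4 := mem_ampLocus_iff (L := L) e h3 h2
  refine Iff.trans ?_ h4.symm
  obtain ⟨i⟩ := nonempty_pullback_comp (a := pullback.fst (f' ≫ g') (T.fromSpecResidueField x))
    (b := pullback.fst (f ≫ g) t) rfl L
  exact ⟨fun h => K30.AmpleLoc.isRelAmple_of_iso i h, fun h => K30.AmpleLoc.isRelAmple_of_iso i.symm h⟩

/-- A point whose fibre is relatively ample has a constructible neighbourhood of such points. -/
theorem exists_subset_ampLocus (H : AmpDesc.{u}) {R : Type u} [CommRing R] (f : X ⟶ Y)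
    (g : Y ⟶ Spec (.of R)) [LocallyOfFinitePresentation g] [QuasiCompact g] [QuasiSeparated g]
    [LocallyOfFinitePresentation (f ≫ g)] [QuasiCompact (f ≫ g)] [QuasiSeparated (f ≫ g)]
    (L : X.Modules) (hL : PicF.IsInvertible L)
    (p : PrimeSpectrum R) (hp : p ∈ ampLocus (S := Spec (.of R)) f g L) :
    ∃ V : Set (PrimeSpectrum R), IsConstructible V ∧ p ∈ V ∧ V ⊆ ampLocus (S := Spec (.of R)) f g L := by
  let K := p.asIdeal.ResidueField
  let i₀ := idx₀ p.asIdeal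
  let b := toBase p.asIdeal i₀
  let g₀ : Y ⟶ (Groth.Agent.Ega43.ResSysSch.diag p.asIdeal).obj i₀ := g ≫ inv b
  let k := Spec.map (CommRingCat.ofHom (algebraMap R K))
  have hfg : f ≫ g₀ = (f ≫ g) ≫ inv b := by simp [g₀]
  have : LocallyOfFinitePresentation g₀ := by dsimp only [g₀]; infer_instance
  have : QuasiCompact g₀ := by dsimp only [g₀]; infer_instance
  have : QuasiSeparated g₀ := by dsimp only [g₀]; infer_instance
  have : LocallyOfFinitePresentation (f ≫ g₀) := by rw [hfg]; infer_instance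
  have : QuasiCompact (f ≫ g₀) := by rw [hfg]; infer_instance
  have : QuasiSeparated (f ≫ g₀) := by rw [hfg]; infer_instance
  have h1 : IsPullback (pullback.fst g k) (pullback.snd g k) g₀ ((cone p.asIdeal K).π.app i₀) := by
    refine IsPullback.of_iso (IsPullback.of_hasPullback g k) (Iso.refl _) (Iso.refl _) (Iso.refl _)
      (asIso b).symm ?_ ?_ ?_ ?_
    · simp
    · simp
    · simp [g₀]
    · rw [Iso.symm_hom, asIso_inv, IsIso.comp_inv_eq]
      exact (cone_toBase p.asIdeal K i₀).symm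
  -- the fibre in the form of `k`
  have key : ∀ t : PrimeSpectrum R, t ∈ ampLocus (S := Spec (.of R)) f g L ↔
      RelAmple.IsRelAmple (bcMap f g (Spec.map (CommRingCat.ofHom (algebraMap R t.asIdeal.ResidueField))))
        ((Scheme.Modules.pullback (pullback.fst (f ≫ g)
          (Spec.map (CommRingCat.ofHom (algebraMap R t.asIdeal.ResidueField))))).obj L) := by
    intro t
    let kt := Spec.map (CommRingCat.ofHom (algebraMap R t.asIdeal.ResidueField))
    let e := Spec.map (Scheme.Spec.residueFieldIso (.of R) t).inv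
    have he : e ≫ kt = (Spec (.of R)).fromSpecResidueField t :=
      Scheme.Spec.map_residueFieldIso_inv_eq_fromSpecResidueField _ _
    have he' : kt = inv e ≫ (Spec (.of R)).fromSpecResidueField t := by
      rw [← he, IsIso.inv_hom_id_assoc]
    have h1 : IsPullback (pullback.fst g kt) (pullback.snd g kt) g
        (inv e ≫ (Spec (.of R)).fromSpecResidueField t) := by
      rw [← he']
      exact IsPullback.of_hasPullback g kt
    exact mem_ampLocus_iff (inv e) (isPullback_bcMap f g kt) h1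
  obtain ⟨i, φ, Xi, Yi, fi, gi, pY, pX, hY, hX, hPi⟩ :=
    H (Groth.Agent.Ega43.ResSysSch.diag p.asIdeal) (cone p.asIdeal K) (isLimit p.asIdeal K) i₀ f g₀ L hL (bcMap f g k)
      (pullback.snd g k) (pullback.fst g k) (pullback.fst (f ≫ g) k) h1 (isPullback_bcMap f g k)
      ((key p).1 hp)
  refine ⟨loc i.unop, isConstructible_loc _, mem_loc _ _, ?_⟩
  have hY' : IsPullback pY gi g (toBase p.asIdeal (op i.unop)) := by
    refine IsPullback.of_iso hY (Iso.refl _) (Iso.refl _) (Iso.refl _) (asIso b) ?_ ?_ ?_ ?_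
    · simp
    · simp
    · simp [g₀]
    · simp [b]
  intro t ht
  obtain ⟨a, ha⟩ := exists_factor_residueField p i.unop t ht
  have h1 : IsPullback (pullback.fst gi a ≫ pY) (pullback.snd gi a) g
      (Spec.map (CommRingCat.ofHom (algebraMap R t.asIdeal.ResidueField))) := by
    rw [← ha]
    exact (IsPullback.of_hasPullback gi a).paste_horiz hY'
  have h2 : IsPullback (pullback.fst (fi ≫ gi) a ≫ pX) (bcMap fi gi a) f
      (pullback.fst gi a ≫ pY) := (isPullback_bcMap fi gi a).paste_horiz hX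
  refine (key t).mpr ?_
  refine isRelAmple_iff_of_isPullback h2 h1 (isPullback_bcMap _ _ _) (IsPullback.of_hasPullback _ _) L ?_
  obtain ⟨e⟩ := nonempty_pullback_comp (a := pullback.fst (fi ≫ gi) a) (b := pX) rfl L
  exact K30.AmpleLoc.isRelAmple_of_iso e (isRelAmple_of_isPullback (isPullback_bcMap fi gi a) hPi)

/-- The locus of relative ampleness is ind-constructible. -/
theorem isIndConstructible_ampLocus (H : AmpDesc.{u}) (f : X ⟶ Y) (g : Y ⟶ S) (hg : FP g)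
    (hfg : FP (f ≫ g)) (L : X.Modules) (hL : PicF.IsInvertible L) :
    ProCons.IsIndConstructible (ampLocus f g L) := by
  refine isIndConstructible_of_cover fun x => ?_
  obtain ⟨_, ⟨U, hU, rfl⟩, hxU, -⟩ :=
    S.isBasis_affineOpens.exists_subset_of_mem_open (Set.mem_univ x) isOpen_univ
  replace hU : IsAffineOpen U := hU
  have : IsOpenImmersion hU.fromSpec := inferInstance
  refine ⟨Spec Γ(S, U), inferInstance, hU.fromSpec, hU.fromSpec.isOpenEmbedding, ?_, ?_⟩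
  · rw [hU.range_fromSpec]
    exact hxU
  · have h1 : FP (pullback.snd g hU.fromSpec) := hg.snd _
    have h2 : FP (bcMap f g hU.fromSpec ≫ pullback.snd g hU.fromSpec) := by
      rw [pullback.lift_snd]
      exact hfg.snd _
    have := h1.lfp; have := h1.qc; have := h1.qs
    have := h2.lfp; have := h2.qc; have := h2.qs
    rw [← ampLocus_bcMap_openImmersion]
    refine (isIndConstructible_iff_forall (X := PrimeSpectrum Γ(S, U))).mpr ?_
    intro p hp
    exact exists_subset_ampLocus H (R := Γ(S, U)) _ _ _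
      (Groth.Agent.Fdesc.LocGen.isInvertible_pullback _ hL) p hp

/-! ### Conjunction of properties descending along limits -/

/-- A base change which factors through another one is a base change of it. -/
theorem exists_isPullback_of_factor {X₁ Y₁ K₁ X₂ Y₂ K₂ : Scheme.{u}} {f : X ⟶ Y} {g : Y ⟶ S} {k : K₁ ⟶ S}
    {f₁ : X₁ ⟶ Y₁} {g₁ : Y₁ ⟶ K₁} {a₁ : X₁ ⟶ X} {b₁ : Y₁ ⟶ Y} (h₁ : IsPullback a₁ f₁ f b₁)
    (h₁' : IsPullback b₁ g₁ g k) {t : K₂ ⟶ K₁}
    {f₂ : X₂ ⟶ Y₂} {g₂ : Y₂ ⟶ K₂} {a₂ : X₂ ⟶ X} {b₂ : Y₂ ⟶ Y} (h₂ : IsPullback a₂ f₂ f b₂)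
    (h₂' : IsPullback b₂ g₂ g (t ≫ k)) : ∃ (u : X₂ ⟶ X₁) (v : Y₂ ⟶ Y₁), IsPullback u f₂ f₁ v := by
  let v : Y₂ ⟶ Y₁ := h₁'.lift b₂ (g₂ ≫ t) (by rw [h₂'.w, Category.assoc])
  have hv : v ≫ b₁ = b₂ := h₁'.lift_fst _ _ _
  let u : X₂ ⟶ X₁ := h₁.lift a₂ (f₂ ≫ v) (by rw [Category.assoc, hv, h₂.w])
  have hu : u ≫ a₁ = a₂ := h₁.lift_fst _ _ _
  have hu' : u ≫ f₁ = f₂ ≫ v := h₁.lift_snd _ _ _
  refine ⟨u, v, IsPullback.of_right (h₁₂ := a₁) (v₁₃ := f) (h₂₂ := b₁) ?_ hu' h₁⟩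
  rw [hu, hv]
  exact h₂

/-- If two base change stable properties descend along limits, so does their conjunction. -/
theorem DescRow.inf {P Q : MorphismProperty Scheme.{u}} [P.IsStableUnderBaseChange]
    [Q.IsStableUnderBaseChange] (hP : DescRow P) (hQ : DescRow Q) : DescRow (P ⊓ Q) := by
  intro I _ _ D c hc _ i₀ _ _ X₀ Y₀ f₀ g₀ _ _ _ _ _ _ X Y f g qY qX hY hX hf
  obtain ⟨i, φ, Xi, Yi, fi, gi, pY, pX, h1, h2, h3⟩ := hP D c hc i₀ f₀ g₀ f g qY qX hY hX hf.1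
  obtain ⟨i', φ', Xi', Yi', fi', gi', pY', pX', h1', h2', h3'⟩ := hQ D c hc i₀ f₀ g₀ f g qY qX hY hX hf.2
  obtain ⟨j, a, b, hab⟩ := IsCofiltered.cospan φ φ'
  have e1 : IsPullback (pullback.fst g₀ (D.map (a ≫ φ))) (pullback.snd g₀ (D.map (a ≫ φ))) g₀
      (D.map (a ≫ φ)) := IsPullback.of_hasPullback _ _
  have e2 := isPullback_bcMap f₀ g₀ (D.map (a ≫ φ))
  obtain ⟨u, v, huv⟩ := exists_isPullback_of_factor h2 h1 (t := D.map a) e2 (by rw [← D.map_comp]; exact e1)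
  obtain ⟨u', v', huv'⟩ := exists_isPullback_of_factor h2' h1' (t := D.map b) e2
    (by rw [← D.map_comp, ← hab]; exact e1)
  exact ⟨j, a ≫ φ, _, _, _, _, _, _, e1, e2, P.of_isPullback huv h3, Q.of_isPullback huv' h3'⟩

end K119.RelAmpInd
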