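import Groth.Agent.Etcore.FGLim
import Groth.Agent.Ega43.LimitDescendIso

/-!
# Isomorphisms between base changes descend to finitely generated subalgebras

* `exists_common`: `X`, `Y` of finite presentation over `B`, `E` a cofiltered diagram over `B` with affine
  transition maps; an isomorphism of the base changes to the limit comes from one at a finite stage
  (expressed by a scheme which is a base change of both `X` and `Y`).
* `exists_common_fg`: the case of the finitely generated `R`-subalgebras of an `R`-algebra.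
-/

set_option autoImplicit false
set_option backward.isDefEq.respectTransparency false
set_option backward.defeqAttrib.useBackward true

universe u

open CategoryTheory AlgebraicGeometry Limits Opposite

namespace K119.FgIso

open Groth.Agent.Etcore.FGLim Groth.Agent.Ega43.LimitDescend

theorem exists_common {J : Type u} [SmallCategory J] [IsCofiltered J] (E : J ⥤ Scheme.{u}) (c : Cone E)
    (hc : IsLimit c) [∀ {i j : J} (φ : i ⟶ j), IsAffineHom (E.map φ)]
    [∀ j, CompactSpace (E.obj j)] [∀ j, QuasiSeparatedSpace (E.obj j)]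
    {B X Y : Scheme.{u}} (t : ∀ j, E.obj j ⟶ B)
    (ht : ∀ {i j : J} (φ : i ⟶ j), E.map φ ≫ t j = t i)
    (p : X ⟶ B) [LocallyOfFinitePresentation p] [QuasiCompact p] [QuasiSeparated p]
    (q : Y ⟶ B) [LocallyOfFinitePresentation q] [QuasiCompact q] [QuasiSeparated q]
    (s : c.pt ⟶ B) (hs : ∀ j, c.π.app j ≫ t j = s)
    {Z : Scheme.{u}} (a : Z ⟶ X) (b : Z ⟶ Y) (z : Z ⟶ c.pt) (ha : IsPullback a z p s)
    (hb : IsPullback b z q s) :
    ∃ (j : J) (Z' : Scheme.{u}) (a' : Z' ⟶ X) (b' : Z' ⟶ Y) (z' : Z' ⟶ E.obj j),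
      IsPullback a' z' p (t j) ∧ IsPullback b' z' q (t j) := by
  -- the base change of `E` to `X`
  let cX := pbCone t ht p c s hs a z ha
  have hcX : IsLimit cX := isLimitPbCone t ht p c s hs a z ha hc
  have htX : ∀ {i j : J} (φ : i ⟶ j), (pbDiagram t ht p).map φ ≫ (pullback.fst p (t j) ≫ p) =
      pullback.fst p (t i) ≫ p := fun φ ↦ by
    rw [← Category.assoc]
    congr 1
    exact pbDiagram_map_fst t ht p φ
  obtain ⟨i, g, hg1, hg2⟩ := Scheme.exists_π_app_comp_eq_of_locallyOfFinitePresentation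
    (pbDiagram t ht p) (toConst (fun j ↦ pullback.fst p (t j) ≫ p) htX) q cX hcX b (by
      ext j
      have h1 := pbCone_π_fst t ht p c s hs a z ha j
      change (pbCone t ht p c s hs a z ha).π.app j ≫ (pullback.fst p (t j) ≫ p) = b ≫ q
      rw [reassoc_of% h1, ha.w, hb.w])
  replace hg2 : g ≫ q = pullback.fst p (t i) ≫ p := hg2
  replace hg1 : (pbCone t ht p c s hs a z ha).π.app i ≫ g = b := hg1
  -- the map `X_i ⟶ Y_i`
  let f₀ : pullback p (t i) ⟶ pullback q (t i) :=
    pullback.lift g (pullback.snd p (t i)) (by rw [hg2, pullback.condition])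
  have hf₀ : f₀ ≫ pullback.snd q (t i) = pullback.snd p (t i) := by simp [f₀]
  let qY : Z ⟶ pullback q (t i) := pullback.lift b (z ≫ c.π.app i) (by
    rw [hb.w, Category.assoc, hs])
  let qX : Z ⟶ pullback p (t i) := pullback.lift a (z ≫ c.π.app i) (by
    rw [ha.w, Category.assoc, hs])
  have hY : IsPullback qY z (pullback.snd q (t i)) (c.π.app i) := by
    refine IsPullback.of_right (h₁₂ := pullback.fst q (t i)) (v₁₃ := q) (h₂₂ := t i)
      ?_ (by simp [qY]) (IsPullback.of_hasPullback _ _)
    rw [hs]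
    simpa [qY] using hb
  have hX : IsPullback qX z (pullback.snd p (t i)) (c.π.app i) := by
    refine IsPullback.of_right (h₁₂ := pullback.fst p (t i)) (v₁₃ := p) (h₂₂ := t i)
      ?_ (by simp [qX]) (IsPullback.of_hasPullback _ _)
    rw [hs]
    simpa [qX] using ha
  have hqX : qX = (pbCone t ht p c s hs a z ha).π.app i := by
    apply pullback.hom_ext <;> simp [qX]
  have hsq : IsPullback qX (𝟙 Z) f₀ qY := by
    refine IsPullback.of_bot (h₁₁ := qX) (h₂₁ := qY) (h₃₁ := c.π.app i) (v₁₁ := 𝟙 Z)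
      (v₂₁ := z) (v₁₂ := f₀) (v₂₂ := pullback.snd q (t i)) ?_ ?_ hY
    · rw [hf₀, Category.id_comp]; exact hX
    · rw [Category.id_comp]
      apply pullback.hom_ext
      · rw [Category.assoc, pullback.lift_fst, pullback.lift_fst, hqX]
        exact hg1
      · rw [Category.assoc, pullback.lift_snd, pullback.lift_snd, pullback.lift_snd]
  have : QuasiSeparatedSpace (E.obj i) := inferInstance
  have : LocallyOfFinitePresentation (f₀ ≫ pullback.snd q (t i)) := by rw [hf₀]; infer_instance
  have : QuasiCompact (f₀ ≫ pullback.snd q (t i)) := by rw [hf₀]; infer_instance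
  have : QuasiSeparated (f₀ ≫ pullback.snd q (t i)) := by rw [hf₀]; infer_instance
  obtain ⟨j, φ, Xj, Yj, fj, gj, pY, pX, h1, h2, h3⟩ :=
    exists_descend_of_descendsLim' Groth.Agent.Ega43.LimitDescendIso.descendsLim_isomorphisms
      E c hc i f₀ (pullback.snd q (t i)) (𝟙 Z) z qY qX hY hsq
      (MorphismProperty.isomorphisms.infer_property (𝟙 Z))
  have h3' : IsIso fj := h3
  refine ⟨j, Yj, inv fj ≫ pX ≫ pullback.fst p (t i), pY ≫ pullback.fst q (t i), gj, ?_, ?_⟩
  · have h4 : IsPullback pX (fj ≫ gj) (f₀ ≫ pullback.snd q (t i)) (E.map φ) := h2.paste_vert h1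
    rw [hf₀] at h4
    have h5 : IsPullback (pX ≫ pullback.fst p (t i)) (fj ≫ gj) p (E.map φ ≫ t i) :=
      h4.paste_horiz (IsPullback.of_hasPullback _ _)
    rw [ht] at h5
    exact IsPullback.of_iso h5 (asIso fj) (Iso.refl _) (Iso.refl _) (Iso.refl _) (by simp) (by simp)
      (by simp) (by simp)
  · have h5 : IsPullback (pY ≫ pullback.fst q (t i)) gj q (E.map φ ≫ t i) :=
      h1.paste_horiz (IsPullback.of_hasPullback _ _)
    rwa [ht] at h5

section FG

variable (R B : Type u) [CommRing R] [CommRing B] [Algebra R B]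

/-- Spectra of the finitely generated subalgebras. -/
noncomputable def fgD : (FGSub R B)ᵒᵖ ⥤ Scheme.{u} := (fgSys R B).op ⋙ Scheme.Spec

/-- The cone with vertex `Spec B`. -/
noncomputable def fgC : Cone (fgD R B) := Scheme.Spec.mapCone (fgCocone R B).op

/-- `Spec B` is the limit of the spectra of the finitely generated subalgebras. -/
noncomputable def isLimitFgC : IsLimit (fgC R B) :=
  isLimitOfPreserves Scheme.Spec (isColimitFG R B).op

instance (j : (FGSub R B)ᵒᵖ) : IsAffine ((fgD R B).obj j) :=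
  inferInstanceAs (IsAffine (Spec (CommRingCat.of j.unop.1)))

instance {i j : (FGSub R B)ᵒᵖ} (φ : i ⟶ j) : IsAffineHom ((fgD R B).map φ) := inferInstance

/-- The structure morphisms. -/
noncomputable def fgT (j : (FGSub R B)ᵒᵖ) : (fgD R B).obj j ⟶ Spec (CommRingCat.of R) :=
  Spec.map (CommRingCat.ofHom (algebraMap R j.unop.1))

lemma fgD_map_fgT {i j : (FGSub R B)ᵒᵖ} (φ : i ⟶ j) : (fgD R B).map φ ≫ fgT R B j = fgT R B i := by
  change Spec.map _ ≫ Spec.map _ = Spec.map _
  rw [← Spec.map_comp]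
  rfl

lemma fgC_π_fgT (j : (FGSub R B)ᵒᵖ) : (fgC R B).π.app j ≫ fgT R B j =
    Spec.map (CommRingCat.ofHom (algebraMap R B)) := by
  change Spec.map _ ≫ Spec.map _ = Spec.map _
  rw [← Spec.map_comp]
  rfl

variable {R B}

/-- `X`, `Y` of finite presentation over `R`, isomorphic over the `R`-algebra `B`: they are isomorphic over a finitely
generated subalgebra. -/
theorem exists_common_fg {X Y : Scheme.{u}}
    (p : X ⟶ Spec (CommRingCat.of R)) [LocallyOfFinitePresentation p] [QuasiCompact p] [QuasiSeparated p]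
    (q : Y ⟶ Spec (CommRingCat.of R)) [LocallyOfFinitePresentation q] [QuasiCompact q] [QuasiSeparated q]
    {Z : Scheme.{u}} (a : Z ⟶ X) (b : Z ⟶ Y) (z : Z ⟶ Spec (CommRingCat.of B))
    (ha : IsPullback a z p (Spec.map (CommRingCat.ofHom (algebraMap R B))))
    (hb : IsPullback b z q (Spec.map (CommRingCat.ofHom (algebraMap R B)))) :
    ∃ (B' : Subalgebra R B) (_ : B'.FG) (Z' : Scheme.{u}) (a' : Z' ⟶ X) (b' : Z' ⟶ Y)
      (z' : Z' ⟶ Spec (CommRingCat.of B')),
      IsPullback a' z' p (Spec.map (CommRingCat.ofHom (algebraMap R B'))) ∧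
      IsPullback b' z' q (Spec.map (CommRingCat.ofHom (algebraMap R B'))) := by
  obtain ⟨j, Z', a', b', z', h1, h2⟩ := exists_common (fgD R B) (fgC R B) (isLimitFgC R B) (fgT R B)
    (fgD_map_fgT R B) p q (Spec.map (CommRingCat.ofHom (algebraMap R B))) (fgC_π_fgT R B)
    a b z ha hb
  exact ⟨j.unop.1, j.unop.2, Z', a', b', z', h1, h2⟩

end FG

end K119.FgIso
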