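import Groth.Agent.Cons9.K119.GenSch
import Groth.Agent.Fdesc.AssFlat


/-!
# Associated points of the fibres near the generic point of the base, in terms of the fibres

`mem_Mx_iff`: the maximal points of the traces on the fibre `X_s` of the closure of an associated point `ξ` of the
generic fibre; `ass_eq`, `disjoint_Mx`, `maximal_iff`: the three parts of EGA IV 9.8.3.
-/

set_option autoImplicit false
universe u

namespace K119.GenFib

open AlgebraicGeometry CategoryTheory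
open Groth.Agent.CycB.RelDim K119.GenSch

variable {X S : Scheme.{u}} (f : X ⟶ S) (F : X.Modules)

theorem mem_Ass_iff (s : S) (z : f.fiber s) :
    z ∈ AssSch.Ass ((Scheme.Modules.pullback (f.fiberι s)).obj F) ↔ f.fiberι s z ∈ MoreMor.relAss f F :=
  Groth.Agent.Fdesc.AssFlat.mem_Ass_fiber_iff f F s z

theorem apply_fiberι (s : S) (z : f.fiber s) : f (f.fiberι s z) = s := by
  have : f.fiberι s z ∈ Set.range (f.fiberι s) := ⟨z, rfl⟩
  rw [Scheme.Hom.range_fiberι] at this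
  exact this

theorem exists_fiberι {s : S} {x : X} (h : f x = s) : ∃ z : f.fiber s, f.fiberι s z = x := by
  have : x ∈ Set.range (f.fiberι s) := by rw [Scheme.Hom.range_fiberι]; exact h
  exact this

theorem fiberι_injective (s : S) : Function.Injective (f.fiberι s) := (f.fiberι s).isEmbedding.injective

theorem fiberι_specializes_iff {s : S} {z z' : f.fiber s} : f.fiberι s z ⤳ f.fiberι s z' ↔ z ⤳ z' :=
  (f.fiberι s).isEmbedding.isInducing.specializes_iff

/-- The maximal points of the trace of the closure of `ξ` on the fibre `X_s`. -/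
def Mx (s : S) (ξ : X) : Set ↥(f.fiber s) :=
  {z : ↥(f.fiber s) | z ∈ ((f.fiberι s).base ⁻¹' closure {ξ}) ∧
    ∀ z' ∈ ((f.fiberι s).base ⁻¹' closure {ξ}), z' ⤳ z → z' = z}

theorem mem_preimage_iff {s : S} {ξ : X} {z : f.fiber s} :
    z ∈ ((f.fiberι s).base ⁻¹' closure {ξ}) ↔ ξ ⤳ f.fiberι s z := by
  rw [specializes_iff_mem_closure]
  rfl

variable {f F}

section

variable [LocallyOfFiniteType f] {η : S} {V : S.Opens} (hg : SGood f F η V Set.univ) {s : S} (hs : s ∈ V)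

include hg hs

theorem mem_Mx_iff {ξ : X} (hξ : ξ ∈ MoreMor.relAss f F) (hη : f ξ = η) (z : f.fiber s) :
    z ∈ Mx f s ξ ↔ ξ ⤳ f.fiberι s z ∧ rtd f (f.fiberι s z) = rtd f ξ := by
  have hV : ∀ z : f.fiber s, f (f.fiberι s z) ∈ V := fun z => by rw [apply_fiberι]; exact hs
  constructor
  · rintro ⟨h1, h2⟩
    rw [mem_preimage_iff] at h1
    obtain ⟨x', hx's, hsp, hsp', hr⟩ := hg.vi _ trivial (hV z) ξ hξ hη h1
    rw [apply_fiberι] at hx's
    obtain ⟨z', rfl⟩ := exists_fiberι f hx's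
    have := h2 z' (by rw [mem_preimage_iff]; exact hsp) ((fiberι_specializes_iff f).mp hsp')
    subst this
    exact ⟨h1, hr⟩
  · rintro ⟨h1, h2⟩
    refine ⟨by rw [mem_preimage_iff]; exact h1, fun z' hz' hsp => ?_⟩
    rw [mem_preimage_iff] at hz'
    by_contra hne
    have h3 := hg.iii _ trivial (hV z') ξ hξ hη hz'
    have h4 := rtd_lt_of_specializes f ((fiberι_specializes_iff f).mpr hsp)
      (fun h => hne (fiberι_injective f s h)) (by rw [apply_fiberι, apply_fiberι])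
    rw [h2] at h4
    exact absurd h3 (not_le.mpr h4)

theorem mem_relAss_iff_Mx (z : f.fiber s) :
    f.fiberι s z ∈ MoreMor.relAss f F ↔ ∃ ξ ∈ MoreMor.relAss f F, f ξ = η ∧ z ∈ Mx f s ξ := by
  have hV : f (f.fiberι s z) ∈ V := by rw [apply_fiberι]; exact hs
  constructor
  · intro h
    obtain ⟨ξ, hξ, hη, hsp, hr⟩ := hg.i _ trivial hV h
    exact ⟨ξ, hξ, hη, (mem_Mx_iff hg hs hξ hη z).mpr ⟨hsp, hr⟩⟩
  · rintro ⟨ξ, hξ, hη, hz⟩
    rw [mem_Mx_iff hg hs hξ hη z] at hz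
    exact hg.ii _ trivial hV ξ hξ hη hz.1 hz.2

theorem eq_of_mem_Mx {ξ ξ' : X} (hξ : ξ ∈ MoreMor.relAss f F) (hη : f ξ = η) (hξ' : ξ' ∈ MoreMor.relAss f F)
    (hη' : f ξ' = η) {z : f.fiber s} (hz : z ∈ Mx f s ξ) (hz' : z ∈ Mx f s ξ') : ξ = ξ' := by
  have hV : f (f.fiberι s z) ∈ V := by rw [apply_fiberι]; exact hs
  rw [mem_Mx_iff hg hs hξ hη z] at hz
  rw [mem_Mx_iff hg hs hξ' hη' z] at hz'
  have h1 := hg.iv _ trivial hV ξ hξ hη ξ' hξ' hη' hz.1 hz'.1 hz.2
  have h2 := hg.iv _ trivial hV ξ' hξ' hη' ξ hξ hη hz'.1 hz.1 hz'.2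
  exact (h2.antisymm h1).eq

theorem maximal_iff {ξ : X} (hξ : ξ ∈ MoreMor.relAss f F) (hη : f ξ = η) {z : f.fiber s} (hz : z ∈ Mx f s ξ) :
    (∀ y : f.fiber s, f.fiberι s y ∈ MoreMor.relAss f F → y ⤳ z → y = z) ↔
      (∀ ξ' ∈ MoreMor.relAss f F, f ξ' = η → ξ' ⤳ ξ → ξ' = ξ) := by
  have hV : ∀ z : f.fiber s, f (f.fiberι s z) ∈ V := fun z => by rw [apply_fiberι]; exact hs
  have hz' := hz
  rw [mem_Mx_iff hg hs hξ hη z] at hz'
  constructor
  · intro h ξ' hξ' hη' hsp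
    by_contra hne
    obtain ⟨x', hx's, hsp1, hsp2, hr⟩ := hg.vi _ trivial (hV z) ξ' hξ' hη' (hsp.trans hz'.1)
    have hx'a := hg.ii x' trivial (by rw [hx's]; exact hV z) ξ' hξ' hη' hsp1 hr
    rw [apply_fiberι] at hx's
    obtain ⟨z', rfl⟩ := exists_fiberι f hx's
    have h3 := h z' hx'a ((fiberι_specializes_iff f).mp hsp2)
    subst h3
    have h4 := rtd_lt_of_specializes f hsp hne (by rw [hη, hη'])
    rw [← hr, hz'.2] at h4
    exact lt_irrefl _ h4
  · intro h y hy hsp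
    obtain ⟨ξ', hξ', hη', hy'⟩ := (mem_relAss_iff_Mx hg hs y).mp hy
    rw [mem_Mx_iff hg hs hξ' hη' y] at hy'
    have hsp' := (fiberι_specializes_iff f).mpr hsp
    have h1 := hg.iv _ trivial (hV z) ξ hξ hη ξ' hξ' hη' hz'.1 (hy'.1.trans hsp') hz'.2
    have h2 := h ξ' hξ' hη' h1
    subst h2
    by_contra hne
    have h4 := rtd_lt_of_specializes f hsp' (fun h => hne (fiberι_injective f s h))
      (by rw [apply_fiberι, apply_fiberι])
    rw [hy'.2, hz'.2] at h4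
    exact lt_irrefl _ h4

theorem exists_mem_Mx {ξ : X} (hξ : ξ ∈ MoreMor.relAss f F) (hη : f ξ = η) : ∃ z : f.fiber s, z ∈ Mx f s ξ := by
  obtain ⟨x, hx, hsp, hr⟩ := hg.v s hs ξ hξ trivial hη
  obtain ⟨z, rfl⟩ := exists_fiberι f hx
  exact ⟨z, (mem_Mx_iff hg hs hξ hη z).mpr ⟨hsp, hr⟩⟩

end

end K119.GenFib
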