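import Groth.Agent.S2513
import Groth.Agent.CycB.RelDim4
import Groth.Agent.Cons9.K119.GenFib
import Mathlib.RingTheory.Ideal.AssociatedPrime.Localization

/-!
# Associated points and base change by field extensions

`mem_Ass_baseChange_iff`: for `X` locally Noetherian over a field `k`, `K` an extension with `X_K` locally Noetherian and
`p : X_K ⟶ X`, the associated points of `p^* F` are the points `x'` over associated points of `F`, which are maximal in
their fibre of `p`.
-/

set_option autoImplicit false
set_option linter.style.haveILetI false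
universe u

namespace K119.BCAss

open AlgebraicGeometry CategoryTheory CategoryTheory.Limits TensorProduct
open Groth.Agent.Fdesc Groth.Agent.Fdesc.AssFlat Groth.Agent.Fdesc.AssFlatAlg

section Max

variable {X Y : Scheme.{u}}

theorem mem_Ass_struct_of_maximal (x : X) [IsNoetherianRing (X.presheaf.stalk x)]
    (h : ∀ x' : X, x' ⤳ x → x' = x) : x ∈ AssSch.Ass (Coh.structureModule X) := by
  rw [StructMod.mem_Ass_structureModule_iff_stalk]
  apply Module.associatedPrimes.minimalPrimes_annihilator_subset_associatedPrimes
  rw [show Module.annihilator (X.presheaf.stalk x) (X.presheaf.stalk x) = ⊥ from Module.annihilator_eq_bot.mpr inferInstance]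
  refine ⟨⟨inferInstance, bot_le⟩, ?_⟩
  rintro q ⟨hq, -⟩ hle
  let q' : Spec (X.presheaf.stalk x) := (⟨q, hq⟩ : PrimeSpectrum _)
  have h1 : X.fromSpecStalk x q' ⤳ x := by
    have : X.fromSpecStalk x q' ∈ Set.range (X.fromSpecStalk x) := ⟨q', rfl⟩
    rw [Scheme.range_fromSpecStalk] at this
    exact this
  have h2 := h _ h1
  have h3 : q' = IsLocalRing.closedPoint (X.presheaf.stalk x) := by
    apply (X.fromSpecStalk x).isEmbedding.injective
    rw [h2, Scheme.fromSpecStalk_closedPoint]
  exact (congr_arg PrimeSpectrum.asIdeal h3).ge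

theorem isNoetherianRing_stalk_fiber [IsLocallyNoetherian X] (f : X ⟶ Y) (y : Y) (z : f.fiber y) :
    IsNoetherianRing ((f.fiber y).presheaf.stalk z) :=
  isNoetherianRing_of_surjective _ _ _ (Groth.Agent.CycB.FiberKer.stalkMap_fiberι_surjective f y z)

/-- tensoring with the structure sheaf does not change the associated points -/
theorem mem_Ass_tensor_unit_iff (M : X.Modules) (x : X) :
    x ∈ AssSch.Ass (CohB1.tensorMod M (Coh.structureModule X)) ↔ x ∈ AssSch.Ass M := by
  have e := (tensorModStalk M (Coh.structureModule X) x).trans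
    ((TensorProduct.congr (LinearEquiv.refl _ _) (StructMod.stalkEquiv x).symm).trans
      (TensorProduct.rid (X.presheaf.stalk x) (M.presheaf.stalk x)))
  exact e.isAssociatedPrime_iff

end Max

section Flat

variable {X Y : Scheme.{u}} (p : X ⟶ Y) [Flat p] [IsLocallyNoetherian X] [IsLocallyNoetherian Y]

/-- Associated points of `p^*F` for `p` flat whose fibre (through `x`) has no embedded associated points. -/
theorem mem_Ass_pullback_iff (F : Y.Modules) (x : X)
    (hemb : AssSch.NoEmbedded (Coh.structureModule (p.fiber (p x)))) :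
    x ∈ AssSch.Ass ((Scheme.Modules.pullback p).obj F) ↔
      p x ∈ AssSch.Ass F ∧ ∀ x' : X, p x' = p x → x' ⤳ x → x' = x := by
  rw [← mem_Ass_tensor_unit_iff, mem_Ass_tensor_iff p F (Coh.structureModule X)
    (Groth.Agent.S2513.isFlatOver_structureModule p)]
  refine and_congr Iff.rfl ?_
  have h1 : FibAss p (Coh.structureModule X) x ↔ p.asFiber x ∈ AssSch.Ass (Coh.structureModule (p.fiber (p x))) := by
    rw [← Groth.Agent.S2513.mem_Ass_pullback_struct_iff (p.fiberι (p x)), mem_Ass_fiber_iff, Scheme.Hom.fiberι_asFiber]
  rw [h1]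
  constructor
  · intro h x' hx' hsp
    -- a maximal generization of `x'` in the fibre
    obtain ⟨z', hz'⟩ := K119.GenFib.exists_fiberι p hx'
    obtain ⟨w, hw, hwz⟩ : ∃ w : p.fiber (p x), w ⤳ z' ∧ ∀ w', w' ⤳ w → w' = w := by
      obtain ⟨T, hT, hle⟩ := exists_mem_irreducibleComponents_subset_of_isIrreducible (closure {z'})
        isIrreducible_singleton.closure
      obtain ⟨w, hw⟩ := QuasiSober.sober hT.1 (isClosed_of_mem_irreducibleComponents T hT)
      refine ⟨w, ?_, fun w' hw' => ?_⟩
      · rw [specializes_iff_mem_closure, hw.def]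
        exact hle (subset_closure rfl)
      · have h2 : T ≤ closure {w'} := by
          rw [← hw.def]
          exact specializes_iff_closure_subset.mp hw'
        have h3 := hT.2 (isIrreducible_singleton.closure : IsIrreducible (closure {w'})) h2
        have h4 : w ⤳ w' := by
          rw [specializes_iff_mem_closure, hw.def]
          exact h3 (subset_closure rfl)
        exact (hw'.antisymm h4).eq
    have hwA : w ∈ AssSch.Ass (Coh.structureModule (p.fiber (p x))) := by
      have := isNoetherianRing_stalk_fiber p (p x) w
      exact mem_Ass_struct_of_maximal w hwz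
    have hsp' : z' ⤳ p.asFiber x := by
      rw [← K119.GenFib.fiberι_specializes_iff p, hz', Scheme.Hom.fiberι_asFiber]
      exact hsp
    have h5 := hemb _ h w hwA (hw.trans hsp')
    have h6 : p.asFiber x ⤳ z' := by rw [h5]; exact hw
    have h7 := (hsp'.antisymm h6).eq
    rw [← hz', h7, Scheme.Hom.fiberι_asFiber]
  · intro h
    have := isNoetherianRing_stalk_fiber p (p x) (p.asFiber x)
    refine mem_Ass_struct_of_maximal _ fun w hw => ?_
    apply (p.fiberι (p x)).isEmbedding.injective
    rw [Scheme.Hom.fiberι_asFiber]
    refine h _ (K119.GenFib.apply_fiberι p _ w) ?_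
    have := hw.map (p.fiberι (p x)).continuous
    rwa [Scheme.Hom.fiberι_asFiber] at this

end Flat

end K119.BCAss
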