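import Groth.Agent.Cons9.K119.BCAss
import Groth.Agent.CycB.StalkExact

/-!
# Associated points of the fibres and base change

`mem_relAss_baseChange_iff` (EGA IV 4.2.7, 12.?): for `f : X ⟶ S` locally of finite type, `g : S' ⟶ S`, and a point `x'` of
`X' = X ×_S S'`: `x'` is in the relative assassin of `F' = F|X'` over `S'` iff its image `x` is in that of `F` over `S`,
and `x'` is maximal among the points with the same images in `X` and `S'`.
-/

set_option autoImplicit false
set_option linter.style.haveILetI false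
universe u

namespace K119.BCAss

open AlgebraicGeometry CategoryTheory CategoryTheory.Limits TensorProduct
open Groth.Agent.Fdesc Groth.Agent.Fdesc.AssFlat Groth.Agent.Fdesc.AssFlatAlg

theorem mem_Ass_struct_of_isIso {W W' : Scheme.{u}} (e : W ⟶ W') [IsIso e] (w : W) :
    w ∈ AssSch.Ass (Coh.structureModule W) ↔ e w ∈ AssSch.Ass (Coh.structureModule W') := by
  rw [StructMod.mem_Ass_structureModule_iff_stalk, StructMod.mem_Ass_structureModule_iff_stalk]
  letI : Algebra (W'.presheaf.stalk (e w)) (W.presheaf.stalk w) := (e.stalkMap w).hom.toAlgebra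
  have hb : Function.Bijective (algebraMap (W'.presheaf.stalk (e w)) (W.presheaf.stalk w)) :=
    ConcreteCategory.bijective_of_isIso (e.stalkMap w)
  have h := comap_mem_associatedPrimes_iff (B := W'.presheaf.stalk (e w)) (C := W.presheaf.stalk w)
    (N := W.presheaf.stalk w) hb.2 (IsLocalRing.maximalIdeal _)
  let l : W'.presheaf.stalk (e w) ≃ₗ[W'.presheaf.stalk (e w)] W.presheaf.stalk w :=
    LinearEquiv.ofBijective (Algebra.linearMap _ _) hb
  haveI hloc : IsLocalHom (algebraMap (W'.presheaf.stalk (e w)) (W.presheaf.stalk w)) :=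
    inferInstanceAs (IsLocalHom (e.stalkMap w).hom)
  have hc : (IsLocalRing.maximalIdeal (W.presheaf.stalk w)).comap
      (algebraMap (W'.presheaf.stalk (e w)) (W.presheaf.stalk w)) =
      IsLocalRing.maximalIdeal (W'.presheaf.stalk (e w)) :=
    ((IsLocalRing.local_hom_TFAE (algebraMap (W'.presheaf.stalk (e w)) (W.presheaf.stalk w))).out 0 4 :
      IsLocalHom (algebraMap (W'.presheaf.stalk (e w)) _) ↔ _).mp hloc
  rw [hc, ← LinearEquiv.AssociatedPrimes.eq l] at h
  exact h.symm

theorem noEmbedded_of_iso {W W' : Scheme.{u}} (e : W ≅ W') (h : AssSch.NoEmbedded (Coh.structureModule W')) :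
    AssSch.NoEmbedded (Coh.structureModule W) := by
  intro x hx y hy hyx
  apply e.hom.isEmbedding.injective
  exact h _ ((mem_Ass_struct_of_isIso e.hom x).mp hx) _ ((mem_Ass_struct_of_isIso e.hom y).mp hy)
    (hyx.map e.hom.continuous)

/-- The fibres of a base change of a field extension have no embedded associated points. -/
theorem noEmbedded_fiber_of_isPullback {k K : CommRingCat.{u}} (hk : IsField k) (hK : IsField K) (φ : k ⟶ K)
    {Z Z' : Scheme.{u}} (m : Z' ⟶ Z) (a : Z' ⟶ Spec K) (b : Z ⟶ Spec k) (h : IsPullback m a b (Spec.map φ))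
    [IsLocallyNoetherian Z] [IsLocallyNoetherian Z'] (z : Z) :
    AssSch.NoEmbedded (Coh.structureModule (m.fiber z)) := by
  letI : Field k := hk.toField
  letI : Field K := hK.toField
  letI : Algebra k K := φ.hom.toAlgebra
  let b' : Z ⟶ Spec (CommRingCat.of k) := b
  let g : Spec (CommRingCat.of K) ⟶ Spec (CommRingCat.of k) := Spec.map (CommRingCat.ofHom (algebraMap k K))
  have h' : IsPullback m a b' g := h
  let e : Z' ≅ pullback b' g := h'.isoPullback
  haveI : IsLocallyNoetherian ↑(pullback b' g) := isLocallyNoetherian_of_isOpenImmersion e.inv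
  have h1 := Groth.Agent.S2513.noEmbedded_fiber (k := k) (K := K) b' z
  have he : m = e.hom ≫ pullback.fst b' g := h'.isoPullback_hom_fst.symm
  have hi : IsIso e.hom := inferInstance
  have w1 : m ≫ 𝟙 Z = e.hom ≫ pullback.fst b' g := by rw [Category.comp_id]; exact he
  have w2 : Z.fromSpecResidueField z ≫ 𝟙 Z = 𝟙 _ ≫ Z.fromSpecResidueField z := by simp
  have hi' := pullback.map_isIso m (Z.fromSpecResidueField z) (pullback.fst b' g) (Z.fromSpecResidueField z)
    e.hom (𝟙 _) (𝟙 _) w1 w2
  exact noEmbedded_of_iso (@asIso _ _ _ _ (pullback.map m (Z.fromSpecResidueField z)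
    (pullback.fst b' g) (Z.fromSpecResidueField z) e.hom (𝟙 _) (𝟙 _) w1 w2) hi') h1

theorem isLocallyNoetherian_fiber {X Y : Scheme.{u}} (f : X ⟶ Y) [LocallyOfFiniteType f] (y : Y) :
    IsLocallyNoetherian (f.fiber y) := by
  haveI : LocallyOfFiniteType (f.fiberToSpecResidueField y) :=
    inferInstanceAs (LocallyOfFiniteType (Limits.pullback.snd f (Y.fromSpecResidueField y)))
  exact LocallyOfFiniteType.isLocallyNoetherian (f.fiberToSpecResidueField y)

section Main

variable {X S S' : Scheme.{u}} (f : X ⟶ S) [LocallyOfFiniteType f] (g : S' ⟶ S) (F : X.Modules)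

theorem mem_Ass_congr {X : Scheme.{u}} {M N : X.Modules} (e : M ≅ N) (x : X) :
    x ∈ AssSch.Ass M ↔ x ∈ AssSch.Ass N :=
  (Groth.Agent.CycB.StalkExact.stalkLinEquiv e x).isAssociatedPrime_iff

theorem mem_relAss_baseChange_iff (x' : ↥(pullback f g)) :
    x' ∈ MoreMor.relAss (pullback.snd f g) ((Scheme.Modules.pullback (pullback.fst f g)).obj F) ↔
      pullback.fst f g x' ∈ MoreMor.relAss f F ∧
        ∀ x'' : ↥(pullback f g), pullback.snd f g x'' = pullback.snd f g x' →
          pullback.fst f g x'' = pullback.fst f g x' → x'' ⤳ x' → x'' = x' := by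
  have hsnd : LocallyOfFiniteType (pullback.snd f g) := inferInstance
  set f' := pullback.snd f g with hf'
  set s' := f' x' with hs'
  have hpb := isPullback_fiberToSpecResidueField_of_isPullback (IsPullback.of_hasPullback f g) s'
  set m : f'.fiber s' ⟶ f.fiber (g s') := pullback.map _ _ _ _ (pullback.fst f g)
    (Spec.map (g.residueFieldMap s')) g (IsPullback.of_hasPullback f g).w.symm (by simp) with hm
  have hmι : m ≫ f.fiberι (g s') = f'.fiberι s' ≫ pullback.fst f g := pullback.lift_fst _ _ _
  have hN : IsLocallyNoetherian (f.fiber (g s')) := isLocallyNoetherian_fiber f _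
  have hN' : IsLocallyNoetherian (f'.fiber s') := isLocallyNoetherian_fiber f' _
  have hflat : Flat m := by
    have h3 : Flat (Spec.map (g.residueFieldMap s')) := by
      rw [Flat.SpecMap_iff]
      let _ := (g.residueFieldMap s').hom.toAlgebra
      exact (inferInstance : Module.Flat (S.residueField (g s')) (S'.residueField s'))
    exact MorphismProperty.of_isPullback (P := @Flat) hpb.flip h3
  have hemb := noEmbedded_fiber_of_isPullback (Field.toIsField _) (Field.toIsField _) _ m _ _ hpb
    (m (f'.asFiber x'))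
  have hx' : f'.fiberι s' (f'.asFiber x') = x' := Scheme.Hom.fiberι_asFiber _ _
  have hcomp : ∀ z : f'.fiber s', f.fiberι (g s') (m z) = pullback.fst f g (f'.fiberι s' z) := fun z => by
    have := congr($hmι z)
    simpa only [Scheme.Hom.comp_apply] using this
  let e : (Scheme.Modules.pullback (f'.fiberι s')).obj ((Scheme.Modules.pullback (pullback.fst f g)).obj F) ≅
      (Scheme.Modules.pullback m).obj ((Scheme.Modules.pullback (f.fiberι (g s'))).obj F) :=
    (Scheme.Modules.pullbackComp (f'.fiberι s') (pullback.fst f g)).app F ≪≫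
      (Scheme.Modules.pullbackCongr hmι.symm).app F ≪≫
      (Scheme.Modules.pullbackComp m (f.fiberι (g s'))).symm.app F
  have h1 : x' ∈ MoreMor.relAss f' ((Scheme.Modules.pullback (pullback.fst f g)).obj F) ↔
      f'.asFiber x' ∈ AssSch.Ass ((Scheme.Modules.pullback (f'.fiberι s')).obj
        ((Scheme.Modules.pullback (pullback.fst f g)).obj F)) := by
    rw [K119.GenFib.mem_Ass_iff, hx']
  rw [h1, mem_Ass_congr e, mem_Ass_pullback_iff m _ _ hemb, K119.GenFib.mem_Ass_iff, hcomp, hx']
  refine and_congr Iff.rfl ⟨fun h x'' h2 h3 h4 => ?_, fun h z h2 h3 => ?_⟩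
  · obtain ⟨z, rfl⟩ := K119.GenFib.exists_fiberι f' h2
    have h5 := h z ?_ ?_
    · rw [h5, hx']
    · apply (f.fiberι (g s')).isEmbedding.injective
      rw [hcomp, hcomp, h3, hx']
    · rw [← K119.GenFib.fiberι_specializes_iff, hx']
      exact h4
  · apply (f'.fiberι s').isEmbedding.injective
    rw [hx']
    refine h _ (K119.GenFib.apply_fiberι f' _ z) ?_ ?_
    · have := congr_arg (f.fiberι (g s')) h2
      rwa [hcomp, hcomp, hx'] at this
    · rw [← K119.GenFib.fiberι_specializes_iff, hx'] at h3
      exact h3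

end Main

end K119.BCAss
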