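import Groth.Agent.Cons9.K119.BCAss2

/-!
# The associated points of the fibres and their relative dimensions are compatible with base change

For a cartesian square `IsPullback g' f' f g` with `f` locally of finite type:
* `mem_relAss_iff`: `x' ∈ relAss f' (g'^*F)` iff `g' x' ∈ relAss f F` and `x'` is maximal (`MaxOver`) over `(g' x', f' x')`;
* `exists_maxOver`: every point has a generization with the same images which is maximal over them;
* `exists_point`: points over pairs of points with the same image;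
* `exists_goingDown`: generizations lift;
* `rtd_eq`: the relative dimensions agree at maximal points.
`Inv f F s` is the set of pairs (relative dimension of `x`, is `x` maximal?) for `x` an associated point of the fibre over
`s`; `Inv_baseChange`: compatible with base change.
-/

set_option autoImplicit false
set_option linter.style.haveILetI false
universe u

namespace K119.BCAss3

open AlgebraicGeometry CategoryTheory CategoryTheory.Limits TensorProduct
open K119.BCAss K119.GenFib Groth.Agent.CycB.RelDim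

theorem exists_maximal_generization {X : Type*} [TopologicalSpace X] [QuasiSober X] [T0Space X] (x : X) :
    ∃ w : X, w ⤳ x ∧ ∀ w', w' ⤳ w → w' = w := by
  obtain ⟨T, hT, hle⟩ := exists_mem_irreducibleComponents_subset_of_isIrreducible (closure {x})
    isIrreducible_singleton.closure
  obtain ⟨w, hw⟩ := QuasiSober.sober hT.1 (isClosed_of_mem_irreducibleComponents T hT)
  refine ⟨w, ?_, fun w' hw' => ?_⟩
  · rw [specializes_iff_mem_closure, hw.def]
    exact hle (subset_closure rfl)
  · have h2 : T ≤ closure {w'} := by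
      rw [← hw.def]
      exact specializes_iff_closure_subset.mp hw'
    have h3 := hT.2 (isIrreducible_singleton.closure : IsIrreducible (closure {w'})) h2
    have h4 : w ⤳ w' := by
      rw [specializes_iff_mem_closure, hw.def]
      exact h3 (subset_closure rfl)
    exact (hw'.antisymm h4).eq

theorem exists_fiber_maximal {X Y : Scheme.{u}} (p : X ⟶ Y) (x : X) :
    ∃ x' : X, p x' = p x ∧ x' ⤳ x ∧ ∀ x'' : X, p x'' = p x → x'' ⤳ x' → x'' = x' := by
  obtain ⟨w, hw, hmax⟩ := exists_maximal_generization (p.asFiber x)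
  refine ⟨p.fiberι _ w, apply_fiberι p _ w, ?_, fun x'' h1 h2 => ?_⟩
  · have := hw.map (p.fiberι (p x)).continuous
    rwa [Scheme.Hom.fiberι_asFiber] at this
  · obtain ⟨w', rfl⟩ := exists_fiberι p h1
    rw [hmax w' ((fiberι_specializes_iff p).mp h2)]

section Square

variable {X S X' S' : Scheme.{u}} {f : X ⟶ S} {f' : X' ⟶ S'} {g' : X' ⟶ X} {g : S' ⟶ S}

/-- the point `x'` has no generization with the same images in `X` and `S'`. -/
def MaxOver (g' : X' ⟶ X) (f' : X' ⟶ S') (x' : X') : Prop :=
  ∀ x'' : X', f' x'' = f' x' → g' x'' = g' x' → x'' ⤳ x' → x'' = x'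

variable (h : IsPullback g' f' f g)

include h

theorem comm_apply (x' : X') : f (g' x') = g (f' x') := congr($(h.w) x')

theorem exists_fiberMap (s' : S') : ∃ m : f'.fiber s' ⟶ f.fiber (g s'), Flat m ∧
    (∀ z, f.fiberι (g s') (m z) = g' (f'.fiberι s' z)) ∧
    m ≫ f.fiberι (g s') = f'.fiberι s' ≫ g' ∧
    ∀ [LocallyOfFiniteType f] (z : f.fiber (g s')), AssSch.NoEmbedded (Coh.structureModule (m.fiber z)) := by
  have hpb := isPullback_fiberToSpecResidueField_of_isPullback h s'
  set m : f'.fiber s' ⟶ f.fiber (g s') := pullback.map _ _ _ _ g'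
    (Spec.map (g.residueFieldMap s')) g h.w.symm (by simp) with hm
  have hmι : m ≫ f.fiberι (g s') = f'.fiberι s' ≫ g' := pullback.lift_fst _ _ _
  refine ⟨m, ?_, fun z => ?_, hmι, fun z => ?_⟩
  · have h3 : Flat (Spec.map (g.residueFieldMap s')) := by
      rw [Flat.SpecMap_iff]
      let _ := (g.residueFieldMap s').hom.toAlgebra
      exact (inferInstance : Module.Flat (S.residueField (g s')) (S'.residueField s'))
    exact MorphismProperty.of_isPullback (P := @Flat) hpb.flip h3
  · have := congr($hmι z)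
    simpa only [Scheme.Hom.comp_apply] using this
  · have hft : LocallyOfFiniteType f' := MorphismProperty.of_isPullback h inferInstance
    have hN : IsLocallyNoetherian (f.fiber (g s')) := isLocallyNoetherian_fiber f _
    have hN' : IsLocallyNoetherian (f'.fiber s') := isLocallyNoetherian_fiber f' _
    exact noEmbedded_fiber_of_isPullback (Field.toIsField _) (Field.toIsField _) _ m _ _ hpb z

theorem exists_maxOver (x' : X') : ∃ y' : X', y' ⤳ x' ∧ f' y' = f' x' ∧ g' y' = g' x' ∧ MaxOver g' f' y' := by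
  obtain ⟨m, -, hm, -, -⟩ := exists_fiberMap h (f' x')
  obtain ⟨z, h1, h2, h3⟩ := exists_fiber_maximal m (f'.asFiber x')
  have hx' : f'.fiberι (f' x') (f'.asFiber x') = x' := Scheme.Hom.fiberι_asFiber _ _
  have h4 : g' (f'.fiberι (f' x') z) = g' x' := by rw [← hm, h1, hm, hx']
  refine ⟨f'.fiberι _ z, ?_, apply_fiberι f' _ z, h4, fun y hy hy' hsp => ?_⟩
  · rw [← fiberι_specializes_iff f', hx'] at h2
    exact h2
  · rw [apply_fiberι] at hy
    obtain ⟨w, rfl⟩ := exists_fiberι f' hy
    rw [h3 w ?_ ((fiberι_specializes_iff f').mp hsp)]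
    apply (f.fiberι _).isEmbedding.injective
    rw [hm, hm, hy', h4, hx']

theorem exists_point {x : X} {s' : S'} (hx : f x = g s') : ∃ x' : X', g' x' = x ∧ f' x' = s' := by
  obtain ⟨t, ht1, ht2⟩ := Scheme.Pullback.exists_preimage_pullback x s' hx
  refine ⟨h.isoPullback.inv t, ?_, ?_⟩
  · rw [← ht1, ← Scheme.Hom.comp_apply, h.isoPullback_inv_fst]
  · rw [← ht2, ← Scheme.Hom.comp_apply, h.isoPullback_inv_snd]

theorem exists_maxOver_point {x : X} {s' : S'} (hx : f x = g s') :
    ∃ x' : X', g' x' = x ∧ f' x' = s' ∧ MaxOver g' f' x' := by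
  obtain ⟨x', rfl, rfl⟩ := exists_point h hx
  obtain ⟨y', -, h1, h2, h3⟩ := exists_maxOver h x'
  exact ⟨y', h2, h1, h3⟩

theorem exists_goingDown {x' : X'} {y : X} (hy : f y = f (g' x')) (hsp : y ⤳ g' x') :
    ∃ y' : X', g' y' = y ∧ f' y' = f' x' ∧ y' ⤳ x' := by
  obtain ⟨m, hflat, hm, -, -⟩ := exists_fiberMap h (f' x')
  have hx' : f'.fiberι (f' x') (f'.asFiber x') = x' := Scheme.Hom.fiberι_asFiber _ _
  rw [comm_apply h] at hy
  obtain ⟨w, rfl⟩ := exists_fiberι f hy
  have h1 : w ⤳ m (f'.asFiber x') := by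
    rw [← fiberι_specializes_iff f, hm, hx']
    exact hsp
  obtain ⟨z, hz, hmz⟩ := exists_specializes_of_flat m h1
  refine ⟨f'.fiberι _ z, by rw [← hm, hmz], apply_fiberι f' _ z, ?_⟩
  rw [← fiberι_specializes_iff f', hx'] at hz
  exact hz

theorem mem_relAss_iff [LocallyOfFiniteType f] (F : X.Modules) (x' : X') :
    x' ∈ MoreMor.relAss f' ((Scheme.Modules.pullback g').obj F) ↔
      g' x' ∈ MoreMor.relAss f F ∧ MaxOver g' f' x' := by
  have hft : LocallyOfFiniteType f' := MorphismProperty.of_isPullback h inferInstance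
  set s' := f' x' with hs'
  obtain ⟨m, hflat, hcomp, hmι, hemb'⟩ := exists_fiberMap h s'
  have hN : IsLocallyNoetherian (f.fiber (g s')) := isLocallyNoetherian_fiber f _
  have hN' : IsLocallyNoetherian (f'.fiber s') := isLocallyNoetherian_fiber f' _
  have hemb := hemb' (m (f'.asFiber x'))
  have hx' : f'.fiberι s' (f'.asFiber x') = x' := Scheme.Hom.fiberι_asFiber _ _
  let e : (Scheme.Modules.pullback (f'.fiberι s')).obj ((Scheme.Modules.pullback g').obj F) ≅
      (Scheme.Modules.pullback m).obj ((Scheme.Modules.pullback (f.fiberι (g s'))).obj F) :=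
    (Scheme.Modules.pullbackComp (f'.fiberι s') g').app F ≪≫
      (Scheme.Modules.pullbackCongr hmι.symm).app F ≪≫
      (Scheme.Modules.pullbackComp m (f.fiberι (g s'))).symm.app F
  have h1 : x' ∈ MoreMor.relAss f' ((Scheme.Modules.pullback g').obj F) ↔
      f'.asFiber x' ∈ AssSch.Ass ((Scheme.Modules.pullback (f'.fiberι s')).obj
        ((Scheme.Modules.pullback g').obj F)) := by
    rw [K119.GenFib.mem_Ass_iff, hx']
  rw [h1, mem_Ass_congr e, mem_Ass_pullback_iff m _ _ hemb, K119.GenFib.mem_Ass_iff, hcomp, hx']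
  refine and_congr Iff.rfl ⟨fun h x'' h2 h3 h4 => ?_, fun h z h2 h3 => ?_⟩
  · obtain ⟨z, rfl⟩ := K119.GenFib.exists_fiberι f' h2
    have h5 := h z ?_ ?_
    · rw [h5, hx']
    · apply (f.fiberι (g s')).isEmbedding.injective
      rw [hcomp, hcomp, h3, hx']
    · rw [← K119.GenFib.fiberι_specializes_iff, hx']
      exact h4
  · apply (f'.fiberι s').isEmbedding.injective
    rw [hx']
    refine h _ (K119.GenFib.apply_fiberι f' _ z) ?_ ?_
    · have := congr_arg (f.fiberι (g s')) h2
      rwa [hcomp, hcomp, hx'] at this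
    · rw [← K119.GenFib.fiberι_specializes_iff, hx'] at h3
      exact h3

theorem rtd_eq {x' : X'} (hx' : MaxOver g' f' x') : rtd f' x' = rtd f (g' x') := by
  set e := h.isoPullback with he
  have h1 : f' = e.hom ≫ pullback.snd f g := (h.isoPullback_hom_snd).symm
  have h2 : g' = e.hom ≫ pullback.fst f g := (h.isoPullback_hom_fst).symm
  have h3 : rtd f' x' = rtd (pullback.snd f g) (e.hom x') := by
    have h4 := rtd_comp e.hom (pullback.snd f g) x'
    rw [← h1, rtd_eq_zero_of_isPreimmersion e.hom x', add_zero] at h4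
    exact h4
  have h5 : ∀ t, e.hom (e.inv t) = t := fun t => by
    rw [← Scheme.Hom.comp_apply, e.inv_hom_id]
    rfl
  have h6 : ∀ t, f' (e.inv t) = pullback.snd f g t := fun t => by
    rw [h1, Scheme.Hom.comp_apply, h5]
  have h7 : ∀ t, g' (e.inv t) = pullback.fst f g t := fun t => by
    rw [h2, Scheme.Hom.comp_apply, h5]
  have h8 : pullback.snd f g (e.hom x') = f' x' := by rw [h1, Scheme.Hom.comp_apply]
  have h9 : pullback.fst f g (e.hom x') = g' x' := by rw [h2, Scheme.Hom.comp_apply]
  rw [h3, rtd_snd_eq (e.hom x'), h9]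
  intro t' ht1 ht2 ht3
  have h10 := hx' (e.inv t') (by rw [h6, ht2, h8]) (by rw [h7, ht1, h9]) (by
    have := ht3.map e.inv.continuous
    have h11 : e.inv (e.hom x') = x' := by
      rw [← Scheme.Hom.comp_apply, e.hom_inv_id]
      rfl
    rwa [h11] at this)
  rw [← h10, h5]

end Square

end K119.BCAss3
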