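import Groth.Agent.Flat2D.ConstrNoeth
import Groth.Agent.PerfB.ApproxMain
import Groth.Agent.CycA.ClosurePt
import Groth.Agent.Models2.FPCoh
import Mathlib.AlgebraicGeometry.Restrict

/-!
# Constructibility of fibrewise invariants of finitely presented modules

If `N f F : Y → α` is a function attached to every morphism `f : X ⟶ Y` locally of finite type and quasi-coherent `F`,
invariant under isomorphisms of `F` and compatible with base change, and constant near the generic point of `Y` when `Y` is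
integral Noetherian, `f` of finite type and `F` coherent, then its level sets are locally constructible for `f` and `F`
of finite presentation.
-/

set_option autoImplicit false

universe u v

open CategoryTheory Limits AlgebraicGeometry Topology

namespace K119.ConstrPair

open Groth.Agent Groth.Agent.Flat2D.ConstrNoeth

variable {α : Type v}

/-- A fibrewise invariant of pairs. -/
structure FibInv (N : ∀ {X Y : Scheme.{u}} (_ : X ⟶ Y) (_ : X.Modules), Y → α) : Prop where
  iso : ∀ {X Y : Scheme.{u}} (f : X ⟶ Y) [LocallyOfFiniteType f] (F F' : X.Modules), Nonempty (F ≅ F') → ∀ y, N f F y = N f F' y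
  bc : ∀ {X Y X' Y' : Scheme.{u}} (f : X ⟶ Y) [LocallyOfFiniteType f] (f' : X' ⟶ Y') (g' : X' ⟶ X) (g : Y' ⟶ Y)
    (F : X.Modules), Coh.IsQCoh F →
      IsPullback g' f' f g → ∀ y' : Y', N f' ((Scheme.Modules.pullback g').obj F) y' = N f F (g y')
  gen : ∀ {X Y : Scheme.{u}} (f : X ⟶ Y) [IsIntegral Y] [IsLocallyNoetherian Y] [LocallyOfFiniteType f] [QuasiCompact f]
    (F : X.Modules), Coh.IsCoh F → ∃ V : Y.Opens, genericPoint Y ∈ V ∧ ∀ y ∈ V, N f F y = N f F (genericPoint Y)

variable {N : ∀ {X Y : Scheme.{u}} (_ : X ⟶ Y) (_ : X.Modules), Y → α} (hN : FibInv N)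

include hN

theorem finConstr_of_isNoetherian {X Y : Scheme.{u}} (f : X ⟶ Y) [IsNoetherian Y] [LocallyOfFiniteType f]
    [QuasiCompact f] (F : X.Modules) (hF : Coh.IsCoh F) (hF' : CohB1.IsFP F) : FinConstr (N f F) := by
  refine finConstr_of_noetherian (N f F) fun y => ?_
  obtain ⟨Z, i, hi, hZ, hgen, hrange⟩ := CycA.ClosurePt.exists_closure_subscheme y
  have hZN : IsLocallyNoetherian Z := LocallyOfFiniteType.isLocallyNoetherian i
  let f' : pullback f i ⟶ Z := pullback.snd f i
  let g' : pullback f i ⟶ X := pullback.fst f i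
  have hc : IsPullback g' f' f i := IsPullback.of_hasPullback f i
  have hXN : IsLocallyNoetherian ↑(pullback f i) := LocallyOfFiniteType.isLocallyNoetherian f'
  have hFP : CohB1.IsFP ((Scheme.Modules.pullback g').obj F) := FormalA.PullbackQC.isFP_pullback _ _ hF'
  obtain ⟨V, hηV, hV⟩ := hN.gen f' ((Scheme.Modules.pullback g').obj F) (Models2.FPCoh.isCoh_of_isFP hFP)
  have hie : Topology.IsEmbedding i := i.isEmbedding
  refine ⟨i '' V, ?_, ⟨_, hηV, hgen⟩, ?_, ?_⟩
  · rw [← hrange]; exact Set.image_subset_range _ _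
  · obtain ⟨O, hO, hOV⟩ := hie.isInducing.isOpen_iff.mp V.isOpen
    have : (Subtype.val ⁻¹' (i '' V) : Set ↑(closure ({y} : Set ↑Y))) = Subtype.val ⁻¹' O := by
      ext ⟨z, hz⟩
      constructor
      · rintro ⟨v, hv, hvz⟩
        change z ∈ O
        have hvz : i v = z := hvz
        rw [← hvz]
        change v ∈ i ⁻¹' O
        rw [hOV]; exact hv
      · intro (hzO : z ∈ O)
        rw [← hrange] at hz
        obtain ⟨v, rfl⟩ := hz
        refine ⟨v, ?_, rfl⟩
        rw [← hOV]; exact hzO
    rw [this]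
    exact hO.preimage continuous_subtype_val
  · rintro _ ⟨v, hv, rfl⟩
    have h1 := hN.bc f f' g' i F hF.1 hc v
    have h2 := hN.bc f f' g' i F hF.1 hc (genericPoint Z)
    rw [hgen] at h2
    rw [← h1, ← h2]
    exact hV v hv

theorem finConstr_of_isAffine {X Y : Scheme.{u}} (f : X ⟶ Y) [IsAffine Y] [LocallyOfFinitePresentation f]
    [QuasiCompact f] [QuasiSeparated f] (F : X.Modules) (hF : CohB1.IsFP F) : FinConstr (N f F) := by
  let R := Γ(Y, ⊤)
  let e := Y.isoSpec
  obtain ⟨A₀, X₀, f₀, g, F₀, hfg, h1, h2, h3, hpb, hF₀, ⟨eF⟩, -⟩ :=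
    PerfB.ApproxMain.exists_noetherian_model R (f ≫ e.hom) F hF
  have hNR : IsNoetherianRing A₀ := by
    have := (Subalgebra.fg_iff_finiteType _).1 hfg
    exact Algebra.FiniteType.isNoetherianRing ℤ _
  have h0 : FinConstr (N f₀ F₀) := finConstr_of_isNoetherian hN f₀ F₀ (Models2.FPCoh.isCoh_of_isFP hF₀) hF₀
  let ψ : Y ⟶ Spec (CommRingCat.of A₀) := e.hom ≫ Spec.map (CommRingCat.ofHom (algebraMap A₀ R))
  have hpb' : IsPullback g f f₀ ψ := by
    refine IsPullback.of_iso hpb (Iso.refl _) (Iso.refl _) e.symm (Iso.refl _) ?_ ?_ ?_ ?_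
    · simp
    · simp
    · simp
    · simp [ψ]
  have h4 : FinConstr (fun y => N f₀ F₀ (ψ y)) := h0.preimage_of_isSpectralMap (f := ψ) (ψ.isSpectralMap)
  have h5 : N f F = fun y => N f₀ F₀ (ψ y) := by
    funext y
    rw [← hN.bc f₀ f g ψ F₀ (Models2.FPCoh.isQCoh_of_isFP hF₀) hpb' y]
    exact (hN.iso f _ _ ⟨eF⟩ y).symm
  rw [h5]
  exact h4

/-- Level sets of fibrewise invariants are locally constructible. -/
theorem isLocallyConstructible {X Y : Scheme.{u}} (f : X ⟶ Y) [LocallyOfFinitePresentation f] [QuasiCompact f]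
    [QuasiSeparated f] (F : X.Modules) (hF : CohB1.IsFP F) (P : Set α) :
    IsLocallyConstructible {y : Y | N f F y ∈ P} := by
  refine IsLocallyConstructible.of_isOpenCover (U := fun U : Y.affineOpens => U.1) ?_ ?_
  · rw [TopologicalSpace.IsOpenCover]
    exact iSup_affineOpens_eq_top Y
  · intro U
    have hU : IsAffine (U.1 : Scheme.{u}) := U.2
    have hpb := (isPullback_morphismRestrict f U.1).flip
    have hFU : CohB1.IsFP ((Scheme.Modules.pullback (f ⁻¹ᵁ U.1).ι).obj F) := FormalA.PullbackQC.isFP_pullback _ _ hF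
    have h := (finConstr_of_isAffine hN (f ∣_ U.1) _ hFU).isConstructible_preimage P
    have heq : (Subtype.val ⁻¹' {y | N f F y ∈ P} : Set (U.1 : Set Y)) =
        {y : (U.1 : Scheme.{u}) | N (f ∣_ U.1) ((Scheme.Modules.pullback (f ⁻¹ᵁ U.1).ι).obj F) y ∈ P} := by
      ext y
      have := hN.bc f (f ∣_ U.1) _ _ F (Models2.FPCoh.isQCoh_of_isFP hF) hpb y
      change N f F _ ∈ P ↔ N (f ∣_ U.1) _ y ∈ P
      rw [this]
      rfl
    refine IsConstructible.isLocallyConstructible ?_
    rw [heq]
    exact h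

omit hN in
/-- The version over a locally Noetherian base (the finite presentation is automatic). -/
theorem isLocallyConstructible_of_noetherian (hN : FibInv N) {X Y : Scheme.{u}} (f : X ⟶ Y) [IsLocallyNoetherian Y]
    [LocallyOfFiniteType f] [QuasiCompact f]
    (F : X.Modules) (hF : CohB1.IsFP F) (P : Set α) :
    IsLocallyConstructible {y : Y | N f F y ∈ P} := by
  refine IsLocallyConstructible.of_isOpenCover (U := fun U : Y.affineOpens => U.1) ?_ ?_
  · rw [TopologicalSpace.IsOpenCover]
    exact iSup_affineOpens_eq_top Y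
  · intro U
    have hU : IsAffine (U.1 : Scheme.{u}) := U.2
    have hUN : IsLocallyNoetherian (U.1 : Scheme.{u}) := isLocallyNoetherian_of_isOpenImmersion U.1.ι
    have hUN' : IsNoetherian (U.1 : Scheme.{u}) := {}
    have hpb := (isPullback_morphismRestrict f U.1).flip
    have hFU : CohB1.IsFP ((Scheme.Modules.pullback (f ⁻¹ᵁ U.1).ι).obj F) := FormalA.PullbackQC.isFP_pullback _ _ hF
    have h := (finConstr_of_isNoetherian hN (f ∣_ U.1) _ (Models2.FPCoh.isCoh_of_isFP hFU)
      hFU).isConstructible_preimage P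
    have heq : (Subtype.val ⁻¹' {y | N f F y ∈ P} : Set (U.1 : Set Y)) =
        {y : (U.1 : Scheme.{u}) | N (f ∣_ U.1) ((Scheme.Modules.pullback (f ⁻¹ᵁ U.1).ι).obj F) y ∈ P} := by
      ext y
      have := hN.bc f (f ∣_ U.1) _ _ F (Models2.FPCoh.isQCoh_of_isFP hF) hpb y
      change N f F _ ∈ P ↔ N (f ∣_ U.1) _ y ∈ P
      rw [this]
      rfl
    refine IsConstructible.isLocallyConstructible ?_
    rw [heq]
    exact h

end K119.ConstrPair
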