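import Groth.Agent.Cons9.K119.GenTB
import Mathlib.RingTheory.Ideal.AssociatedPrime.Basic

/-!
# Associated primes of the fibres near the generic point of the base (ring level)

`R` is a domain, `B` a finite type `R`-algebra.
* `torsionFree_case`: for a finite `B`-module `T` which is a torsion free `B ⧸ P`-module (`P ∩ R = 0`), over a dense
  open of `Spec R` all primes associated to the fibres of `T` contain `P` and have relative dimension that of `P`.
-/

set_option autoImplicit false
universe u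

namespace K119.GenAss

open Groth.Agent.Flat2E.RelAssAlg Groth.Agent.CycB.TrdegAlg TensorProduct Cardinal K119.GenTB

section General

variable {R B M : Type u} [CommRing R] [CommRing B] [Algebra R B] [AddCommGroup M] [Module B M]

/-- an element killing `M` (modulo anything) lies in all associated primes -/
theorem mem_of_locAss {N' : Submodule B M} {q : Ideal B} (h : LocAss N' q) {a : B}
    (ha : ∀ m : M, a • m ∈ N') : a ∈ q := by
  obtain ⟨m, h1, -⟩ := h
  by_contra hq
  exact h1 a hq (ha m)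

/-- `q` is minimal among the primes of its fibre containing `P`. -/
def MinOver (R : Type u) {B : Type u} [CommRing R] [CommRing B] [Algebra R B] (P q : Ideal B) : Prop :=
  P ≤ q ∧ ∀ q' : Ideal B, q'.IsPrime → P ≤ q' → q'.comap (algebraMap R B) = q.comap (algebraMap R B) →
    q' ≤ q → q' = q

theorem MinOver.exists_mul_pow_mem {P q : Ideal B} [hq : q.IsPrime] (h : MinOver R P q) {a : B} (ha : a ∈ q) :
    ∃ n : ℕ, ∃ s ∉ q, s * a ^ n ∈ P ⊔ (q.comap (algebraMap R B)).map (algebraMap R B) := by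
  by_contra hcon
  push Not at hcon
  let S : Submonoid B :=
    { carrier := {b | ∃ n : ℕ, ∃ s ∉ q, b = s * a ^ n}
      one_mem' := ⟨0, 1, (Ideal.ne_top_iff_one q).mp hq.ne_top, by simp⟩
      mul_mem' := by
        rintro _ _ ⟨n, s, hs, rfl⟩ ⟨n', s', hs', rfl⟩
        exact ⟨n + n', s * s', fun h' => (hq.mem_or_mem h').elim hs hs', by ring⟩ }
  have hd : Disjoint ((P ⊔ (q.comap (algebraMap R B)).map (algebraMap R B) : Ideal B) : Set B) (S : Set B) := by
    rw [Set.disjoint_left]
    rintro b hb ⟨n, s, hs, rfl⟩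
    exact hcon n s hs hb
  obtain ⟨q', hq', hle, hdis⟩ := Ideal.exists_le_prime_disjoint _ S hd
  rw [Set.disjoint_left] at hdis
  have hle' : q' ≤ q := by
    intro b hb
    by_contra hbq
    exact hdis hb ⟨0, b, hbq, by simp⟩
  have heq : q' = q := by
    refine h.2 q' hq' (le_sup_left.trans hle) (le_antisymm (Ideal.comap_mono hle') ?_) hle'
    rw [← Ideal.map_le_iff_le_comap]
    exact le_sup_right.trans hle
  refine hdis (a := a) ?_ ⟨1, 1, (Ideal.ne_top_iff_one q).mp hq.ne_top, by simp⟩
  rw [heq]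
  exact ha

/-- A minimal prime of a fibre of `B ⧸ P` is associated to it. -/
theorem MinOver.RA {P q : Ideal B} [hq : q.IsPrime] (h : MinOver R P q) : RA R (B ⧸ P) q := by
  set p := q.comap (algebraMap R B) with hp
  have hpq : p.map (algebraMap R B) ≤ q := Ideal.map_le_iff_le_comap.mpr le_rfl
  have key : ∀ b : B, b • (1 : B ⧸ P) ∈ p.map (algebraMap R B) • (⊤ : Submodule B (B ⧸ P)) ↔
      b ∈ P ⊔ p.map (algebraMap R B) := by
    intro b
    have h1 : (⊤ : Submodule B (B ⧸ P)) = (⊤ : Submodule B B).map P.mkQ := by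
      rw [Submodule.map_top, Submodule.range_mkQ]
    have h2 : b • (1 : B ⧸ P) = P.mkQ b := by
      rw [← map_one (Ideal.Quotient.mk P)]
      change Submodule.Quotient.mk (b • (1 : B)) = _
      rw [smul_eq_mul, mul_one]
      rfl
    rw [h1, ← Submodule.map_smul'', h2, ← Submodule.mem_comap, Submodule.comap_map_mkQ]
    rw [smul_eq_mul, Ideal.mul_top]
  refine ⟨1, fun s hs hmem => ?_, fun a ha => ?_⟩
  · rw [key] at hmem
    exact hs ((sup_le h.1 hpq) hmem)
  · obtain ⟨n, s, hs, hsn⟩ := h.exists_mul_pow_mem ha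
    exact ⟨n, s, hs, (key _).mpr hsn⟩

/-- Every prime over `P` contains a prime of its fibre minimal over `P`. -/
theorem exists_minOver {P q : Ideal B} [hq : q.IsPrime] (h : P ≤ q) :
    ∃ q' : Ideal B, q'.IsPrime ∧ q' ≤ q ∧ q'.comap (algebraMap R B) = q.comap (algebraMap R B) ∧
      MinOver R P q' := by
  have hpq : (q.comap (algebraMap R B)).map (algebraMap R B) ≤ q := Ideal.map_le_iff_le_comap.mpr le_rfl
  obtain ⟨q', hq', hle⟩ := Ideal.exists_minimalPrimes_le (sup_le h hpq)
  have hq'p : q'.IsPrime := hq'.1.1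
  have hc : q'.comap (algebraMap R B) = q.comap (algebraMap R B) := by
    refine le_antisymm (Ideal.comap_mono hle) ?_
    rw [← Ideal.map_le_iff_le_comap]
    exact le_sup_right.trans hq'.1.2
  refine ⟨q', hq'p, hle, hc, le_sup_left.trans hq'.1.2, fun q'' hq'' hP hc'' hle'' => ?_⟩
  refine le_antisymm hle'' (hq'.2 ⟨hq'', sup_le hP ?_⟩ hle'')
  rw [Ideal.map_le_iff_le_comap, hc'', hc]

end General

theorem isPrime_map_C {ι R : Type*} [CommRing R] (p : Ideal R) [p.IsPrime] :
    (p.map (MvPolynomial.C : R →+* MvPolynomial ι R)).IsPrime := by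
  have : p.map (MvPolynomial.C : R →+* MvPolynomial ι R) =
      RingHom.ker (MvPolynomial.map (Ideal.Quotient.mk p) : MvPolynomial ι R →+* MvPolynomial ι (R ⧸ p)) := by
    ext a
    rw [MvPolynomial.mem_map_C_iff, RingHom.mem_ker, MvPolynomial.ext_iff]
    refine forall_congr' fun m => ?_
    rw [MvPolynomial.coeff_map, MvPolynomial.coeff_zero, Ideal.Quotient.eq_zero_iff_mem]
  rw [this]
  exact RingHom.ker_isPrime _

section TorsionFree

variable {R B T : Type u} [CommRing R] [IsDomain R] [CommRing B] [Algebra R B]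
  [Algebra.FiniteType R B]
  [AddCommGroup T] [Module B T] [Module R T] [IsScalarTower R B T] [Module.Finite B T]

/-- The torsion free case. -/
theorem torsionFree_case (P : Ideal B) [hP : P.IsPrime] (hPR : P.comap (algebraMap R B) = ⊥)
    (hPT : ∀ a ∈ P, ∀ m : T, a • m = 0)
    (htf : ∀ q : Ideal B, q.IsPrime → q.comap (algebraMap R B) = ⊥ → LocAss (⊥ : Submodule B T) q → q = P) :
    ∃ r : R, r ≠ 0 ∧ ∀ q : Ideal B, q.IsPrime → r ∉ q.comap (algebraMap R B) → RA R T q →
      P ≤ q ∧ δ R q = δ R P := by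
  classical
  -- a transcendence basis of `B ⧸ P`
  have hinj : Function.Injective (algebraMap R (B ⧸ P)) := by
    rw [injective_iff_map_eq_zero]
    intro r hr
    have : r ∈ P.comap (algebraMap R B) := (Ideal.Quotient.eq_zero_iff_mem (I := P)).mp hr
    rwa [hPR, Ideal.mem_bot] at this
  have : FaithfulSMul R (B ⧸ P) := (faithfulSMul_iff_algebraMap_injective _ _).mpr hinj
  obtain ⟨ι, y, hy⟩ := exists_isTranscendenceBasis' R (B ⧸ P)
  choose x hx using fun i => Ideal.Quotient.mk_surjective (I := P) (y i)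
  let ψ : MvPolynomial ι R →ₐ[R] B := MvPolynomial.aeval x
  have hψ : ∀ a, Ideal.Quotient.mk P (ψ a) = MvPolynomial.aeval y a := by
    intro a
    have : (Ideal.Quotient.mkₐ R P) (ψ a) = MvPolynomial.aeval (fun i => Ideal.Quotient.mkₐ R P (x i)) a :=
      MvPolynomial.comp_aeval_apply _ _ _
    change (Ideal.Quotient.mkₐ R P) (ψ a) = _
    rw [this]
    congr 2
    funext i
    exact hx i
  have hψP : ∀ a, ψ a ∈ P → a = 0 := by
    intro a ha
    rw [← Ideal.Quotient.eq_zero_iff_mem, hψ] at ha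
    exact algebraicIndependent_iff.mp hy.1 a ha
  -- generators and polynomials
  obtain ⟨s, hs⟩ := (inferInstance : Algebra.FiniteType R B).out
  have halg : ∀ b : B, ∃ F : Polynomial (MvPolynomial ι R), F ≠ 0 ∧
      Polynomial.eval₂ (ψ : MvPolynomial ι R →ₐ[R] B).toRingHom b F ∈ P := by
    intro b
    have h1 : Algebra.IsAlgebraic (Algebra.adjoin R (Set.range y)) (B ⧸ P) := hy.isAlgebraic
    obtain ⟨F, hF0, hF⟩ := h1.isAlgebraic (Ideal.Quotient.mk P b)
    have hsurj : Function.Surjective (hy.1.aevalEquiv : MvPolynomial ι R → _) := hy.1.aevalEquiv.surjective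
    refine ⟨F.map hy.1.aevalEquiv.symm.toRingEquiv.toRingHom, ?_, ?_⟩
    · rw [Ne, Polynomial.map_eq_zero_iff hy.1.aevalEquiv.symm.toRingEquiv.injective]
      exact hF0
    · rw [← Ideal.Quotient.eq_zero_iff_mem, Polynomial.hom_eval₂, Polynomial.eval₂_map]
      rw [Polynomial.aeval_def] at hF
      rw [← hF]
      congr 1
      refine RingHom.ext fun a => ?_
      change Ideal.Quotient.mk P (ψ (hy.1.aevalEquiv.symm a)) = _
      rw [hψ]
      change (MvPolynomial.aeval y) _ = (a : B ⧸ P)
      have : ((hy.1.aevalEquiv (hy.1.aevalEquiv.symm a)) : B ⧸ P) = MvPolynomial.aeval y (hy.1.aevalEquiv.symm a) :=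
        hy.1.algebraMap_aevalEquiv _
      rw [← this, AlgEquiv.apply_symm_apply]
  choose F hF0 hF using halg
  -- flatness over the polynomial ring
  let _ : Algebra (MvPolynomial ι R) B := ψ.toRingHom.toAlgebra
  have : IsScalarTower R (MvPolynomial ι R) B := IsScalarTower.of_algebraMap_eq fun r => (ψ.commutes r).symm
  have : Algebra.FiniteType (MvPolynomial ι R) B := Algebra.FiniteType.of_restrictScalars_finiteType R _ B
  let _ : Module (MvPolynomial ι R) T := Module.compHom T ψ.toRingHom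
  have : IsScalarTower (MvPolynomial ι R) B T := IsScalarTower.of_algebraMap_smul fun r m => rfl
  have : IsScalarTower R (MvPolynomial ι R) T := IsScalarTower.of_algebraMap_smul fun r m => by
    change ψ (algebraMap R _ r) • m = r • m
    rw [ψ.commutes, algebraMap_smul]
  obtain ⟨g₀, hg₀, hflat⟩ := exists_flat (MvPolynomial ι R) B T
  let g : MvPolynomial ι R := g₀ * ∏ b ∈ s, (F b).leadingCoeff
  have hg : g ≠ 0 := mul_ne_zero hg₀ (Finset.prod_ne_zero_iff.mpr fun b _ => by
    rw [Ne, Polynomial.leadingCoeff_eq_zero]; exact hF0 b)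
  obtain ⟨r, hr, hr'⟩ := exists_ne_zero_not_le (R := R) (B := B) (M := T) (Ideal.span {ψ g}) (by
    intro q hq hqR hass hle
    rw [htf q hq hqR hass, Ideal.span_singleton_le_iff_mem] at hle
    exact hg (hψP g hle))
  refine ⟨r, hr, fun q hq hrq hRA => ?_⟩
  set p := q.comap (algebraMap R B) with hp
  have hpp : p.IsPrime := Ideal.comap_isPrime _ _
  have hgq : ψ g ∉ q := by
    have := hr' p hpp hrq q hq hp.symm hRA
    rwa [Ideal.span_singleton_le_iff_mem] at this
  have hPq : P ≤ q := fun a ha => mem_of_locAss hRA fun m => by rw [hPT a ha]; exact Submodule.zero_mem _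
  have hg₀q : ψ g₀ ∉ q := fun h => hgq (by
    change ψ (g₀ * _) ∈ q
    rw [map_mul]
    exact Ideal.mul_mem_right _ _ h)
  have hlc : ∀ b ∈ s, ψ (F b).leadingCoeff ∉ q := fun b hb h => hgq (by
    obtain ⟨c, hc⟩ : (F b).leadingCoeff ∣ ∏ b ∈ s, (F b).leadingCoeff := Finset.dvd_prod_of_mem _ hb
    change ψ (g₀ * _) ∈ q
    rw [hc, map_mul, map_mul]
    exact Ideal.mul_mem_left _ _ (Ideal.mul_mem_right _ _ h))
  -- the contraction to the polynomial ring
  let J : Ideal (MvPolynomial ι R) := p.map (MvPolynomial.C : R →+* MvPolynomial ι R)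
  have hJp : J.IsPrime := isPrime_map_C p
  have hJT : ∀ m : T, m ∈ J • (⊤ : Submodule (MvPolynomial ι R) T) ↔
      m ∈ p.map (algebraMap R B) • (⊤ : Submodule B T) := by
    intro m
    rw [mem_map_smul_top_iff, ← mem_map_smul_top_iff (R := R) (B := MvPolynomial ι R)]
    rfl
  have hcon : ∀ a : MvPolynomial ι R, ψ a ∈ q → a ∈ J := by
    intro a ha
    by_contra haJ
    obtain ⟨m, h1, h2⟩ := hRA
    obtain ⟨n, t, ht, hn⟩ := h2 _ ha
    have h3 : a ^ n • (t • m) ∈ J • (⊤ : Submodule (MvPolynomial ι R) T) := by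
      rw [hJT]
      change ψ (a ^ n) • (t • m) ∈ _
      rw [map_pow, smul_smul, mul_comm]
      exact hn
    obtain ⟨k, hk⟩ := exists_pow_smul_mem J g₀ (a ^ n) hflat (fun c hc =>
      (hJp.mem_or_mem hc).resolve_left fun h => haJ (hJp.mem_of_pow_mem n h)) _ h3
    rw [hJT] at hk
    have hk' : ψ (g₀ ^ k) • (t • m) ∈ p.map (algebraMap R B) • (⊤ : Submodule B T) := hk
    rw [smul_smul] at hk'
    refine h1 _ (fun h => ?_) hk'
    rcases hq.mem_or_mem h with h | h
    · rw [map_pow] at h
      exact hg₀q (hq.mem_of_pow_mem _ h)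
    · exact ht h
  refine ⟨hPq, ?_⟩
  have e1 : δ R q = #ι := δ_eq_card x q hcon (s : Set B) hs fun b hb => ⟨F b, hlc b hb, hPq (hF b)⟩
  have e2 : δ R P = #ι := δ_eq_card x P (fun a ha => by rw [hψP a ha]; exact Ideal.zero_mem _)
    (s : Set B) hs fun b hb => ⟨F b, fun h => by
      have := hψP _ h
      rw [Polynomial.leadingCoeff_eq_zero] at this
      exact hF0 b this, hF b⟩
  rw [e1, e2]

end TorsionFree

end K119.GenAss
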