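import Groth.Agent.Cons9.K119.GenAss

/-!
# Associated primes of the fibres near the generic point of the base (ring level, devissage)

`R` is a Noetherian domain, `B` a finite type `R`-algebra, `M` a finite `B`-module.
`main`: over a dense open of `Spec R`
* every prime associated to a fibre of `M` is a minimal prime of the fibre of `B ⧸ P` for some `P` associated to the
  generic fibre, and has the same relative dimension as `P`;
* conversely such minimal primes are associated to the fibres of `M`;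
* `δ` is at most `δ P` on the fibres of `B ⧸ P`, and is smaller than `δ P` on `V(P) ∩ V(P')` if `P' ≰ P`.
-/

set_option autoImplicit false
universe u

namespace K119.GenDev

open Groth.Agent.Flat2E.RelAssAlg Groth.Agent.CycB.TrdegAlg TensorProduct Cardinal K119.GenTB K119.GenAss

section General

variable {B M : Type u} [CommRing B] [AddCommGroup M] [Module B M]

/-- `q` is the annihilator of an element of `M ⧸ N'`. -/
def AE (N' : Submodule B M) (q : Ideal B) : Prop := ∃ x : M, ∀ b : B, b • x ∈ N' ↔ b ∈ q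

theorem AE.locAss {N' : Submodule B M} {q : Ideal B} (h : AE N' q) [hq : q.IsPrime] : LocAss N' q := by
  obtain ⟨x, hx⟩ := h
  refine ⟨x, fun s hs h => hs ((hx s).mp h), fun a ha => ⟨1, 1, (Ideal.ne_top_iff_one q).mp hq.ne_top, ?_⟩⟩
  rw [one_mul, pow_one]
  exact (hx a).mpr ha

theorem ae_of_locAss [IsNoetherianRing B] {N' : Submodule B M} {q : Ideal B} [hq : q.IsPrime]
    (h : LocAss N' q) : AE N' q := by
  obtain ⟨m, h1, h2⟩ := h
  have hmin : q ∈ (N'.colon {m}).minimalPrimes := by
    refine ⟨⟨hq, fun b hb => ?_⟩, ?_⟩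
    · rw [Submodule.mem_colon_singleton] at hb
      by_contra hbq
      exact h1 b hbq hb
    · rintro q' ⟨hq', hle⟩ hle'
      intro a ha
      obtain ⟨n, s, hs, hsn⟩ := h2 a ha
      have h3 : s * a ^ n ∈ q' := hle (by rw [Submodule.mem_colon_singleton]; exact hsn)
      exact hq'.mem_of_pow_mem n ((hq'.mem_or_mem h3).resolve_left fun h => hs (hle' h))
  obtain ⟨y, hy⟩ := Submodule.exists_eq_colon_of_mem_minimalPrimes hmin
  refine ⟨y, fun b => ?_⟩
  rw [hy, Submodule.mem_colon_singleton]

theorem ae_iff [IsNoetherianRing B] {N' : Submodule B M} {q : Ideal B} [hq : q.IsPrime] :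
    AE N' q ↔ LocAss N' q := ⟨fun h => h.locAss, ae_of_locAss⟩

variable {R : Type u} [CommRing R] [Algebra R B]

theorem RA_congr {M' : Type u} [AddCommGroup M'] [Module B M'] (e : M ≃ₗ[B] M') (q : Ideal B) (h : RA R M q) :
    RA R M' q := by
  obtain ⟨m, h1, h2⟩ := h
  set I := (q.comap (algebraMap R B)).map (algebraMap R B)
  have key : ∀ x : M, e x ∈ I • (⊤ : Submodule B M') ↔ x ∈ I • (⊤ : Submodule B M) := by
    intro x
    have : I • (⊤ : Submodule B M') = (I • (⊤ : Submodule B M)).map (e : M →ₗ[B] M') := by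
      rw [Submodule.map_smul'', Submodule.map_top, LinearEquiv.range]
    rw [this, Submodule.mem_map]
    exact ⟨fun ⟨y, hy, h⟩ => e.injective h ▸ hy, fun h => ⟨x, h, rfl⟩⟩
  refine ⟨e m, fun s hs h => h1 s hs ?_, fun a ha => ?_⟩
  · rw [← key, map_smul]
    exact h
  · obtain ⟨n, s, hs, hsn⟩ := h2 a ha
    exact ⟨n, s, hs, by rw [← map_smul, key]; exact hsn⟩

end General

section Domain

variable {R B M : Type u} [CommRing R] [IsDomain R] [CommRing B] [Algebra R B]
  [Algebra.FiniteType R B]
  [AddCommGroup M] [Module B M] [Module R M] [IsScalarTower R B M] [Module.Finite B M]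

/-- Minimal primes of the fibres of `B ⧸ P`, `P = Ann(m₀)`, are associated to the fibres of `M`. -/
theorem exists_RA_of_annihilator (m₀ : M) (P : Ideal B) (hP : ∀ b : B, b • m₀ = 0 ↔ b ∈ P) :
    ∃ r : R, r ≠ 0 ∧ ∀ q : Ideal B, q.IsPrime → r ∉ q.comap (algebraMap R B) → MinOver R P q → RA R M q := by
  obtain ⟨f, hf, hflat⟩ := exists_flat_quotient R (Submodule.span B {m₀})
  refine ⟨f, hf, fun q hq hfq hmin => ?_⟩
  set p := q.comap (algebraMap R B) with hp
  have hpp : p.IsPrime := Ideal.comap_isPrime _ _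
  have hpq : p.map (algebraMap R B) ≤ q := Ideal.map_le_iff_le_comap.mpr le_rfl
  refine ⟨m₀, fun s hs h => ?_, fun a ha => ?_⟩
  · rw [← hp, mem_map_smul_top_iff] at h
    obtain ⟨k, hk⟩ := exists_pow_smul_mem_smul ((Submodule.span B {m₀}).restrictScalars R) f hflat p _
      (Submodule.smul_mem _ s (Submodule.mem_span_singleton_self m₀)) h
    rw [smul_restrictScalars', Submodule.mem_smul_span_singleton] at hk
    obtain ⟨y, hy, e⟩ := hk
    rw [← algebraMap_smul B (f ^ k), smul_smul, ← sub_eq_zero, ← sub_smul, hP] at e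
    have h3 : algebraMap R B (f ^ k) * s ∈ q := by
      have := q.sub_mem (hpq hy) (hmin.1 e)
      rwa [sub_sub_cancel] at this
    rcases hq.mem_or_mem h3 with h4 | h4
    · exact hfq (hpp.mem_of_pow_mem k h4)
    · exact hs h4
  · obtain ⟨n, s, hs, hsn⟩ := hmin.exists_mul_pow_mem ha
    refine ⟨n, s, hs, ?_⟩
    obtain ⟨b, hb, y, hy, e⟩ := Submodule.mem_sup.mp hsn
    rw [← e, add_smul, (hP b).mpr hb, zero_add]
    exact Submodule.smul_mem_smul hy trivial

/-- The primes associated to the fibres of `M` are associated to those of a submodule or its quotient. -/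
theorem exists_RA_sub_or_quotient (T : Submodule B M) :
    ∃ r : R, r ≠ 0 ∧ ∀ q : Ideal B, q.IsPrime → r ∉ q.comap (algebraMap R B) → RA R M q →
      RA R T q ∨ RA R (M ⧸ T) q := by
  obtain ⟨f, hf, hflat⟩ := exists_flat_quotient R T
  refine ⟨f, hf, fun q hq hfq hRA => ?_⟩
  set p := q.comap (algebraMap R B) with hp
  have hpp : p.IsPrime := Ideal.comap_isPrime _ _
  set I := p.map (algebraMap R B) with hI
  obtain ⟨m, h1, h2⟩ := hRA
  have hq1 : (1 : B) ∉ q := (Ideal.ne_top_iff_one q).mp hq.ne_top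
  have hmap : (I • (⊤ : Submodule B M)).map T.mkQ = I • (⊤ : Submodule B (M ⧸ T)) := by
    rw [Submodule.map_smul'', Submodule.map_top, Submodule.range_mkQ]
  by_cases hcase : ∃ s ∉ q, s • T.mkQ m ∈ I • (⊤ : Submodule B (M ⧸ T))
  · left
    obtain ⟨s, hs, hsm⟩ := hcase
    rw [← map_smul, ← hmap] at hsm
    obtain ⟨w, hw, hws⟩ := hsm
    have hn : s • m - w ∈ T := by
      have : T.mkQ (s • m - w) = 0 := by rw [map_sub, ← hws, sub_self]
      rwa [Submodule.mkQ_apply, Submodule.Quotient.mk_eq_zero] at this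
    refine ⟨⟨s • m - w, hn⟩, fun t ht h => ?_, fun a ha => ?_⟩
    · rw [Submodule.mem_smul_top_iff] at h
      have h3 : t • (s • m - w) ∈ I • (⊤ : Submodule B M) := Submodule.smul_mono le_rfl le_top h
      rw [smul_sub] at h3
      have h4 := Submodule.add_mem _ h3 (Submodule.smul_mem _ t hw)
      rw [sub_add_cancel, smul_smul] at h4
      exact h1 _ (fun h => (hq.mem_or_mem h).elim ht hs) h4
    · obtain ⟨n, t, ht, hn'⟩ := h2 a ha
      have h3 : (t * a ^ n) • (s • m - w) ∈ p • (⊤ : Submodule R M) := by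
        rw [← mem_map_smul_top_iff (R := R) (B := B), smul_sub, smul_comm]
        exact Submodule.sub_mem _ (Submodule.smul_mem _ _ hn') (Submodule.smul_mem _ _ hw)
      obtain ⟨k, hk⟩ := exists_pow_smul_mem_smul (T.restrictScalars R) f hflat p _
        (Submodule.smul_mem T _ hn) h3
      rw [smul_restrictScalars', ← algebraMap_smul B (f ^ k), smul_smul, ← mul_assoc] at hk
      refine ⟨n, algebraMap R B (f ^ k) * t, fun h => ?_, ?_⟩
      · rcases hq.mem_or_mem h with h4 | h4
        · exact hfq (hpp.mem_of_pow_mem k h4)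
        · exact ht h4
      · rw [Submodule.mem_smul_top_iff]
        exact hk
  · right
    push Not at hcase
    refine ⟨T.mkQ m, hcase, fun a ha => ?_⟩
    obtain ⟨n, t, ht, hn'⟩ := h2 a ha
    refine ⟨n, t, ht, ?_⟩
    rw [← map_smul, ← hp, ← hI, ← hmap]
    exact ⟨_, hn', rfl⟩

end Domain

section Dev

variable {B M : Type u} [CommRing B] [AddCommGroup M] [Module B M]

/-- The elements killed by `P` modulo `N`. -/
def tors (N : Submodule B M) (P : Ideal B) : Submodule B M where
  carrier := {m | ∀ a ∈ P, a • m ∈ N}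
  add_mem' := fun h h' a ha => by rw [smul_add]; exact N.add_mem (h a ha) (h' a ha)
  zero_mem' := fun a _ => by rw [smul_zero]; exact N.zero_mem
  smul_mem' := fun b m h a ha => by rw [smul_comm]; exact N.smul_mem b (h a ha)

theorem mem_tors {N : Submodule B M} {P : Ideal B} {m : M} : m ∈ tors N P ↔ ∀ a ∈ P, a • m ∈ N := Iff.rfl

theorem le_tors (N : Submodule B M) (P : Ideal B) : N ≤ tors N P := fun _ hm a _ => N.smul_mem a hm

theorem ae_of_ae_tors [IsNoetherianRing B] {N : Submodule B M} {P q : Ideal B} [hq : q.IsPrime]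
    (h : AE (tors N P) q) : AE N q := by
  classical
  obtain ⟨x, hx⟩ := h
  obtain ⟨s, hs⟩ := (isNoetherianRing_iff_ideal_fg B).mp ‹_› P
  have h1 : s.inf (fun a => N.colon {a • x}) ≤ q := by
    intro b hb
    rw [← hx, mem_tors]
    intro a ha
    rw [← hs] at ha
    induction ha using Submodule.span_induction with
    | mem a ha =>
      have : b ∈ N.colon {a • x} := (Finset.inf_le (f := fun a => N.colon {a • x}) ha) hb
      rw [Submodule.mem_colon_singleton, smul_comm] at this
      exact this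
    | zero => rw [zero_smul]; exact N.zero_mem
    | add a a' _ _ h h' => rw [add_smul]; exact N.add_mem h h'
    | smul c a _ h => rw [smul_eq_mul, mul_smul]; exact N.smul_mem c h
  obtain ⟨a, ha, hle⟩ := (Ideal.IsPrime.inf_le' hq).mp h1
  refine ⟨a • x, fun b => ⟨fun hb => hle (by rw [Submodule.mem_colon_singleton]; exact hb), fun hb => ?_⟩⟩
  rw [← hx, mem_tors] at hb
  have haP : a ∈ P := by rw [← hs]; exact Submodule.subset_span ha
  rw [smul_comm]
  exact hb a haP

end Dev

section Main

variable {R B M : Type u} [CommRing R] [IsDomain R] [IsNoetherianRing R] [CommRing B] [Algebra R B]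
  [Algebra.FiniteType R B]
  [AddCommGroup M] [Module B M] [Module R M] [IsScalarTower R B M] [Module.Finite B M]

/-- The primes of the generic fibre associated to `M ⧸ N`. -/
def A0 (R : Type u) {B M : Type u} [CommRing R] [CommRing B] [Algebra R B] [AddCommGroup M] [Module B M]
    (N : Submodule B M) : Set (Ideal B) :=
  {P | P.IsPrime ∧ P.comap (algebraMap R B) = ⊥ ∧ AE N P}

theorem dev (N : Submodule B M) :
    ∃ r : R, r ≠ 0 ∧ ∀ q : Ideal B, q.IsPrime → r ∉ q.comap (algebraMap R B) → RA R (M ⧸ N) q →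
      ∃ P ∈ A0 R N, P ≤ q ∧ δ R q = δ R P := by
  have hB : IsNoetherianRing B := Algebra.FiniteType.isNoetherianRing R B
  have hM : IsNoetherian B M := isNoetherian_of_isNoetherianRing_of_finite B M
  induction N using WellFoundedGT.induction with
  | ind N ih =>
  by_cases hne : (A0 R N).Nonempty
  · obtain ⟨P, ⟨hP, hPR, x, hx⟩, hmax⟩ := wellFounded_gt.has_min (A0 R N) hne
    let T : Submodule B (M ⧸ N) := (tors N P).map N.mkQ
    have hcomap : T.comap N.mkQ = tors N P := by
      rw [Submodule.comap_map_mkQ, sup_eq_right]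
      exact le_tors N P
    have hT : ∀ m : M, N.mkQ m ∈ T ↔ m ∈ tors N P := fun m => by
      rw [← hcomap]; rfl
    have hlt : N < tors N P := by
      refine lt_of_le_of_ne (le_tors N P) fun h => ?_
      have h1 : x ∈ N := by
        rw [h, mem_tors]
        intro a ha
        rw [h] at hx
        rw [← h] at hx
        exact (hx a).mpr ha
      have : (1 : B) ∈ P := (hx 1).mp (by rw [one_smul]; exact h1)
      exact (Ideal.ne_top_iff_one P).mp hP.ne_top this
    obtain ⟨r₁, hr₁, h₁⟩ := torsionFree_case (R := R) (B := B) (T := T) P hPR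
      (by
        rintro a ha ⟨m, hm⟩
        obtain ⟨m, rfl⟩ := N.mkQ_surjective m
        rw [hT] at hm
        apply Subtype.ext
        change a • N.mkQ m = 0
        rw [← map_smul, Submodule.mkQ_apply, Submodule.Quotient.mk_eq_zero]
        exact hm a ha)
      (by
        intro q hq hqR hass
        have h2 : AE (⊥ : Submodule B T) q := ae_of_locAss hass
        obtain ⟨⟨y, hyT⟩, hy⟩ := h2
        obtain ⟨y, rfl⟩ := N.mkQ_surjective y
        have hy' : ∀ b : B, b • y ∈ N ↔ b ∈ q := by
          intro b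
          rw [← hy, Submodule.mem_bot, ← Subtype.coe_inj]
          change _ ↔ b • N.mkQ y = 0
          rw [← map_smul, Submodule.mkQ_apply, Submodule.Quotient.mk_eq_zero]
        have hqA : q ∈ A0 R N := ⟨hq, hqR, y, hy'⟩
        have hPq : P ≤ q := fun a ha => (hy' a).mp (((hT y).mp hyT) a ha)
        by_contra hne'
        exact hmax q hqA (lt_of_le_of_ne hPq (Ne.symm hne')))
    obtain ⟨r₂, hr₂, h₂⟩ := exists_RA_sub_or_quotient (R := R) T
    obtain ⟨r₃, hr₃, h₃⟩ := ih (tors N P) hlt
    refine ⟨r₁ * r₂ * r₃, mul_ne_zero (mul_ne_zero hr₁ hr₂) hr₃, fun q hq hrq hRA => ?_⟩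
    have hr₁q : r₁ ∉ q.comap (algebraMap R B) := fun h =>
      hrq (Ideal.mul_mem_right _ _ (Ideal.mul_mem_right _ _ h))
    have hr₂q : r₂ ∉ q.comap (algebraMap R B) := fun h =>
      hrq (Ideal.mul_mem_right _ _ (Ideal.mul_mem_left _ _ h))
    have hr₃q : r₃ ∉ q.comap (algebraMap R B) := fun h => hrq (Ideal.mul_mem_left _ _ h)
    rcases h₂ q hq hr₂q hRA with h | h
    · obtain ⟨h4, h5⟩ := h₁ q hq hr₁q h
      exact ⟨P, ⟨hP, hPR, x, hx⟩, h4, h5⟩
    · have e : ((M ⧸ N) ⧸ T) ≃ₗ[B] M ⧸ tors N P := by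
        refine ((Submodule.quotEquivOfEq _ _ ?_).trans ((T.mkQ ∘ₗ N.mkQ).quotKerEquivOfSurjective
          (T.mkQ_surjective.comp N.mkQ_surjective))).symm
        rw [LinearMap.ker_comp, Submodule.ker_mkQ, hcomap]
      obtain ⟨P', hP', h6, h7⟩ := h₃ q hq hr₃q (RA_congr e q h)
      have hP'p := hP'.1
      exact ⟨P', ⟨hP'.1, hP'.2.1, ae_of_ae_tors hP'.2.2⟩, h6, h7⟩
  · obtain ⟨r, hr, h⟩ := exists_ne_zero_not_le (R := R) (B := B) (M := M ⧸ N) ⊥ (by
      intro q hq hqR hass _
      apply hne
      have h2 : AE (⊥ : Submodule B (M ⧸ N)) q := ae_of_locAss hass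
      obtain ⟨y, hy⟩ := h2
      obtain ⟨y, rfl⟩ := N.mkQ_surjective y
      refine ⟨q, hq, hqR, y, fun b => ?_⟩
      rw [← hy, Submodule.mem_bot, ← map_smul, Submodule.mkQ_apply, Submodule.Quotient.mk_eq_zero])
    refine ⟨r, hr, fun q hq hrq hRA => (h _ (Ideal.comap_isPrime _ _) hrq q hq rfl hRA bot_le).elim⟩

end Main

end K119.GenDev
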