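import Groth.Agent.Cons9.K119.GenPack
import Groth.Agent.Flat2E.RelAssSch
import Groth.Agent.CycB.RelDim2
import Groth.Agent.Models2.FPCoh

/-!
# Associated points of the fibres near the generic point of the base

`S` is an integral Noetherian scheme with generic point `η`, `f : X ⟶ S` is of finite type and `F` is coherent.
`exists_good`: there is a nonempty open `V` of `S` such that for all points `x` of `X` over `V`:
(i) if `x` is an associated point of its fibre there is an associated point `ξ` of the generic fibre with `ξ ⤳ x` and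
`rtd f x = rtd f ξ` (`rtd f x` is the transcendence degree of `κ(x)` over `κ(f x)`);
(ii) if `ξ ⤳ x` and `rtd f x = rtd f ξ` for an associated point `ξ` of the generic fibre then `x` is an
associated point of its fibre;
(iii) `rtd f x ≤ rtd f ξ` if `ξ ⤳ x`;
(iv) if `ξ ⤳ x`, `ξ' ⤳ x` and `rtd f x = rtd f ξ` then `ξ' ⤳ ξ`;
(v) for all `s` in `V` there is `x` over `s` with `ξ ⤳ x` and `rtd f x = rtd f ξ`;
(vi) if `ξ ⤳ x` then there is `x'` in the fibre of `x` with `ξ ⤳ x' ⤳ x` and `rtd f x' = rtd f ξ`.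
-/

set_option autoImplicit false
set_option linter.style.haveILetI false
universe u

namespace K119.GenSch

open AlgebraicGeometry CategoryTheory Groth.Agent.Fdesc.QCohStalk
open Groth.Agent.Flat2E.RelAssAlg Groth.Agent.Flat2E.RelAssSch Groth.Agent.CycB.RelDim Groth.Agent.CycB.TrdegAlg
open K119.GenTB K119.GenDev

theorem mem_A0_iff {R B M : Type u} [CommRing R] [CommRing B] [Algebra R B] [AddCommGroup M] [Module B M]
    [IsNoetherianRing B] {P : Ideal B} [hP : P.IsPrime] :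
    P ∈ A0 R (⊥ : Submodule B M) ↔ P.comap (algebraMap R B) = ⊥ ∧ RA R M P := by
  have h : P.comap (algebraMap R B) = ⊥ → (RA R M P ↔ AE (⊥ : Submodule B M) P) := by
    intro h
    rw [ae_iff, RA, h, Ideal.map_bot, Submodule.bot_smul]
  exact ⟨fun h' => ⟨h'.2.1, (h h'.2.1).mpr h'.2.2⟩, fun h' => ⟨hP, h'.1, (h h'.1).mp h'.2⟩⟩

section Chart

variable {X S : Scheme.{u}} (f : X ⟶ S) (F : X.Modules) {U : X.Opens} (hU : IsAffineOpen U)
  {W : S.Opens} (hW : IsAffineOpen W) (e : U ≤ f ⁻¹ᵁ W) (x : X) (hx : x ∈ U)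

theorem comap_eq :
    (hU.primeIdealOf ⟨x, hx⟩).asIdeal.comap (f.appLE W U e).hom = (hW.primeIdealOf ⟨f x, e hx⟩).asIdeal :=
  congr_arg PrimeSpectrum.asIdeal (IsAffineOpen.comap_primeIdealOf_appLE W hW U hU e hx)

include hW in
theorem mem_relAss_iff_RA (hF : Coh.IsQCoh F) :
    letI : Algebra Γ(S, W) Γ(X, U) := (f.appLE W U e).hom.toAlgebra
    x ∈ MoreMor.relAss f F ↔ RA Γ(S, W) Γ(F, U) (hU.primeIdealOf ⟨x, hx⟩).asIdeal := by
  letI : Algebra Γ(S, W) Γ(X, U) := (f.appLE W U e).hom.toAlgebra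
  rw [mem_relAss_iff f F hU hW e x hx hF, ← comap_eq f hU hW e x hx]
  rfl

include hW in
theorem rtd_eq_δ :
    letI : Algebra Γ(S, W) Γ(X, U) := (f.appLE W U e).hom.toAlgebra
    rtd f x = δ Γ(S, W) (hU.primeIdealOf ⟨x, hx⟩).asIdeal := by
  letI : Algebra Γ(S, W) Γ(X, U) := (f.appLE W U e).hom.toAlgebra
  rw [rtd_eq_trd_quotientMap f hW hU e x hx (e hx) _ rfl (comap_eq f hU hW e x hx).ge]
  rw [δ_eq Γ(S, W) _ _ (comap_eq f hU hW e x hx).symm]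
  rfl

theorem primeIdealOf_generic [IsIntegral S] (hη : genericPoint S ∈ W) :
    (hW.primeIdealOf ⟨genericPoint S, hη⟩).asIdeal = ⊥ := by
  have : Nonempty W := ⟨⟨_, hη⟩⟩
  rw [hW.primeIdealOf_genericPoint, genericPoint_eq_bot_of_affine]
  rfl

include hW in
theorem comap_eq_bot_iff [IsIntegral S] :
    (hU.primeIdealOf ⟨x, hx⟩).asIdeal.comap (f.appLE W U e).hom = ⊥ ↔ f x = genericPoint S := by
  have hη : genericPoint S ∈ W := (genericPoint_specializes (f x)).mem_open W.isOpen (e hx)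
  rw [comap_eq f hU hW e x hx, ← primeIdealOf_generic hW hη]
  refine ⟨fun h => ?_, fun h => by simp only [h]⟩
  exact congr_arg Subtype.val (primeIdealOf_injective hW (PrimeSpectrum.ext h))

end Chart

section Good

variable {X S : Scheme.{u}}

/-- The good behaviour of the associated points of the fibres of `F` over the open `V` (relative to the generic point
`η`); if `V` is the whole of `S` and `U` the whole of `X` this is what is wanted, in general only points of `U`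
are considered. -/
structure SGood (f : X ⟶ S) (F : X.Modules) (η : S) (V : S.Opens) (U : Set X) : Prop where
  i : ∀ x ∈ U, f x ∈ V → x ∈ MoreMor.relAss f F →
    ∃ ξ ∈ MoreMor.relAss f F, f ξ = η ∧ ξ ⤳ x ∧ rtd f x = rtd f ξ
  ii : ∀ x ∈ U, f x ∈ V → ∀ ξ ∈ MoreMor.relAss f F, f ξ = η → ξ ⤳ x → rtd f x = rtd f ξ →
    x ∈ MoreMor.relAss f F
  iii : ∀ x ∈ U, f x ∈ V → ∀ ξ ∈ MoreMor.relAss f F, f ξ = η → ξ ⤳ x → rtd f x ≤ rtd f ξ
  iv : ∀ x ∈ U, f x ∈ V → ∀ ξ ∈ MoreMor.relAss f F, f ξ = η → ∀ ξ' ∈ MoreMor.relAss f F, f ξ' = η →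
    ξ ⤳ x → ξ' ⤳ x → rtd f x = rtd f ξ → ξ' ⤳ ξ
  v : ∀ s ∈ V, ∀ ξ ∈ MoreMor.relAss f F, ξ ∈ U → f ξ = η → ∃ x, f x = s ∧ ξ ⤳ x ∧ rtd f x = rtd f ξ
  vi : ∀ x ∈ U, f x ∈ V → ∀ ξ ∈ MoreMor.relAss f F, f ξ = η → ξ ⤳ x →
    ∃ x', f x' = f x ∧ ξ ⤳ x' ∧ x' ⤳ x ∧ rtd f x' = rtd f ξ

theorem SGood.mono {f : X ⟶ S} {F : X.Modules} {η : S} {V V' : S.Opens} {U : Set X} (h : SGood f F η V U)
    (hle : V' ≤ V) : SGood f F η V' U where
  i x hx hV := h.i x hx (hle hV)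
  ii x hx hV := h.ii x hx (hle hV)
  iii x hx hV := h.iii x hx (hle hV)
  iv x hx hV := h.iv x hx (hle hV)
  v s hs := h.v s (hle hs)
  vi x hx hV := h.vi x hx (hle hV)

theorem SGood.biUnion {f : X ⟶ S} {F : X.Modules} {η : S} {V : S.Opens} {ι : Type*} {s : Set ι} {U : ι → Set X}
    (h : ∀ i ∈ s, SGood f F η V (U i)) : SGood f F η V (⋃ i ∈ s, U i) where
  i x hx hV := by
    obtain ⟨i, hi, hxi⟩ := Set.mem_iUnion₂.mp hx
    exact (h i hi).i x hxi hV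
  ii x hx hV := by
    obtain ⟨i, hi, hxi⟩ := Set.mem_iUnion₂.mp hx
    exact (h i hi).ii x hxi hV
  iii x hx hV := by
    obtain ⟨i, hi, hxi⟩ := Set.mem_iUnion₂.mp hx
    exact (h i hi).iii x hxi hV
  iv x hx hV := by
    obtain ⟨i, hi, hxi⟩ := Set.mem_iUnion₂.mp hx
    exact (h i hi).iv x hxi hV
  v s' hs' ξ hξ hx := by
    obtain ⟨i, hi, hxi⟩ := Set.mem_iUnion₂.mp hx
    exact (h i hi).v s' hs' ξ hξ hxi
  vi x hx hV := by
    obtain ⟨i, hi, hxi⟩ := Set.mem_iUnion₂.mp hx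
    exact (h i hi).vi x hxi hV

theorem SGood.univ {f : X ⟶ S} {F : X.Modules} {η : S} {V W : S.Opens} (hηW : η ∈ W)
    (h : SGood f F η V (f ⁻¹ᵁ W)) : SGood f F η (V ⊓ W) Set.univ where
  i x _ hV := h.i x hV.2 hV.1
  ii x _ hV := h.ii x hV.2 hV.1
  iii x _ hV := h.iii x hV.2 hV.1
  iv x _ hV := h.iv x hV.2 hV.1
  v s' hs' ξ hξ _ he := h.v s' hs'.1 ξ hξ (by
    change f ξ ∈ W
    rw [he]
    exact hηW) he
  vi x _ hV := h.vi x hV.2 hV.1

theorem exists_chart (f : X ⟶ S) [IsIntegral S] [IsLocallyNoetherian S] [LocallyOfFiniteType f] (F : X.Modules)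
    (hF : Coh.IsCoh F) {U : X.Opens} (hU : IsAffineOpen U)
    {W : S.Opens} (hW : IsAffineOpen W) (e : U ≤ f ⁻¹ᵁ W) (hη : genericPoint S ∈ W) :
    ∃ V : S.Opens, genericPoint S ∈ V ∧ SGood f F (genericPoint S) V U := by
  have : Coh.IsQCoh F := hF.1
  have hNW : Nonempty W := ⟨⟨_, hη⟩⟩
  letI : Algebra Γ(S, W) Γ(X, U) := (f.appLE W U e).hom.toAlgebra
  have : IsNoetherianRing Γ(S, W) := IsLocallyNoetherian.component_noetherian ⟨W, hW⟩
  have : Algebra.FiniteType Γ(S, W) Γ(X, U) := f.finiteType_appLE hW hU e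
  have : IsNoetherianRing Γ(X, U) := Algebra.FiniteType.isNoetherianRing Γ(S, W) Γ(X, U)
  have : Module.Finite Γ(X, U) Γ(F, U) :=
    Groth.Agent.CohqB.FiniteType2.finite_sections_of_isFT F hF.2 hU
  obtain ⟨r, hr, hgood⟩ := K119.GenPack.exists_good Γ(S, W) (B := Γ(X, U)) Γ(F, U)
  -- translation
  have hmemr : ∀ s (hs : s ∈ W), s ∈ S.basicOpen r ↔ r ∉ (hW.primeIdealOf ⟨s, hs⟩).asIdeal :=
    fun s hs => mem_basicOpen_iff hW s hs r
  have hrx : ∀ x (hx : x ∈ U), f x ∈ S.basicOpen r →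
      r ∉ (hU.primeIdealOf ⟨x, hx⟩).asIdeal.comap (algebraMap Γ(S, W) Γ(X, U)) := by
    intro x hx h
    have h1 := comap_eq f hU hW e x hx
    change r ∉ (hU.primeIdealOf ⟨x, hx⟩).asIdeal.comap (f.appLE W U e).hom
    rw [h1]
    exact (hmemr _ _).mp h
  have hA : ∀ ξ (hξ : ξ ∈ U), ξ ∈ MoreMor.relAss f F → f ξ = genericPoint S →
      (hU.primeIdealOf ⟨ξ, hξ⟩).asIdeal ∈ A0 Γ(S, W) (⊥ : Submodule Γ(X, U) Γ(F, U)) := by
    intro ξ hξ hr hη'
    rw [mem_A0_iff]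
    exact ⟨(comap_eq_bot_iff f hU hW e ξ hξ).mpr hη', (mem_relAss_iff_RA f F hU hW e ξ hξ hF.1).mp hr⟩
  have hle : ∀ ξ x (hξ : ξ ∈ U) (hx : x ∈ U), ξ ⤳ x ↔
      (hU.primeIdealOf ⟨ξ, hξ⟩).asIdeal ≤ (hU.primeIdealOf ⟨x, hx⟩).asIdeal := fun ξ x hξ hx =>
    (primeIdealOf_le_iff hU ⟨ξ, hξ⟩ ⟨x, hx⟩).symm
  refine ⟨S.basicOpen r, ?_, ⟨?_, ?_, ?_, ?_, ?_, ?_⟩⟩
  · rw [hmemr _ hη, primeIdealOf_generic hW hη, Ideal.mem_bot]
    exact hr
  · intro x hx hV hxr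
    rw [mem_relAss_iff_RA f F hU hW e x hx hF.1] at hxr
    obtain ⟨P, hP, hPq, hδ⟩ := hgood.i _ inferInstance (hrx x hx hV) hxr
    have hPp := hP.1
    obtain ⟨hξ, hξP⟩ := primeIdealOf_fromSpec hU ⟨P, hP.1⟩
    set ξ := hU.fromSpec ⟨P, hP.1⟩ with hξdef
    have hξP' : (hU.primeIdealOf ⟨ξ, hξ⟩).asIdeal = P := congr_arg PrimeSpectrum.asIdeal hξP
    rw [mem_A0_iff] at hP
    refine ⟨ξ, ?_, ?_, ?_, ?_⟩
    · rw [mem_relAss_iff_RA f F hU hW e ξ hξ hF.1, hξP']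
      exact hP.2
    · rw [← comap_eq_bot_iff f hU hW e ξ hξ, hξP']
      exact hP.1
    · rw [hle ξ x hξ hx, hξP']
      exact hPq
    · rw [rtd_eq_δ f hU hW e x hx, rtd_eq_δ f hU hW e ξ hξ, hξP']
      exact hδ
  · intro x hx hV ξ hξr hξη hsp hδ
    have hξ : ξ ∈ U := hsp.mem_open U.isOpen hx
    rw [mem_relAss_iff_RA f F hU hW e x hx hF.1]
    rw [rtd_eq_δ f hU hW e x hx, rtd_eq_δ f hU hW e ξ hξ] at hδ
    exact hgood.ii _ inferInstance (hrx x hx hV) _ (hA ξ hξ hξr hξη) ((hle ξ x hξ hx).mp hsp) hδ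
  · intro x hx hV ξ hξr hξη hsp
    have hξ : ξ ∈ U := hsp.mem_open U.isOpen hx
    rw [rtd_eq_δ f hU hW e x hx, rtd_eq_δ f hU hW e ξ hξ]
    exact hgood.iii _ inferInstance (hrx x hx hV) _ (hA ξ hξ hξr hξη) ((hle ξ x hξ hx).mp hsp)
  · intro x hx hV ξ hξr hξη ξ' hξ'r hξ'η hsp hsp' hδ
    have hξ : ξ ∈ U := hsp.mem_open U.isOpen hx
    have hξ' : ξ' ∈ U := hsp'.mem_open U.isOpen hx
    rw [rtd_eq_δ f hU hW e x hx, rtd_eq_δ f hU hW e ξ hξ] at hδ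
    rw [hle ξ' ξ hξ' hξ]
    exact hgood.iv _ inferInstance (hrx x hx hV) _ (hA ξ hξ hξr hξη) _ (hA ξ' hξ' hξ'r hξ'η)
      ((hle ξ x hξ hx).mp hsp) ((hle ξ' x hξ' hx).mp hsp') hδ
  · intro s hs ξ hξr hξ hξη
    have hsW : s ∈ W := S.basicOpen_le r hs
    obtain ⟨q, hq, hqs, hPq, hδ⟩ := hgood.v (hW.primeIdealOf ⟨s, hsW⟩).asIdeal inferInstance
      ((hmemr s hsW).mp hs) _ (hA ξ hξ hξr hξη)
    obtain ⟨hx, hxP⟩ := primeIdealOf_fromSpec hU ⟨q, hq⟩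
    set x := hU.fromSpec ⟨q, hq⟩ with hxdef
    have hxq : (hU.primeIdealOf ⟨x, hx⟩).asIdeal = q := congr_arg PrimeSpectrum.asIdeal hxP
    refine ⟨x, ?_, ?_, ?_⟩
    · have h1 := comap_eq f hU hW e x hx
      rw [hxq] at h1
      exact congr_arg Subtype.val (primeIdealOf_injective hW (PrimeSpectrum.ext (h1.symm.trans hqs)))
    · rw [hle ξ x hξ hx, hxq]
      exact hPq
    · rw [rtd_eq_δ f hU hW e x hx, rtd_eq_δ f hU hW e ξ hξ, hxq]
      exact hδ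
  · intro x hx hV ξ hξr hξη hsp
    have hξ : ξ ∈ U := hsp.mem_open U.isOpen hx
    obtain ⟨q, hq, hqs, hPq, hqx, hδ⟩ := hgood.vi _ inferInstance (hrx x hx hV) _ (hA ξ hξ hξr hξη)
      ((hle ξ x hξ hx).mp hsp)
    obtain ⟨hx', hxP⟩ := primeIdealOf_fromSpec hU ⟨q, hq⟩
    set x' := hU.fromSpec ⟨q, hq⟩ with hxdef
    have hxq : (hU.primeIdealOf ⟨x', hx'⟩).asIdeal = q := congr_arg PrimeSpectrum.asIdeal hxP
    refine ⟨x', ?_, ?_, ?_, ?_⟩
    · have h1 := comap_eq f hU hW e x' hx'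
      rw [hxq] at h1
      exact congr_arg Subtype.val (primeIdealOf_injective hW (PrimeSpectrum.ext
        (h1.symm.trans (hqs.trans (comap_eq f hU hW e x hx)))))
    · rw [hle ξ x' hξ hx', hxq]
      exact hPq
    · rw [hle x' x hx' hx, hxq]
      exact hqx
    · rw [rtd_eq_δ f hU hW e x' hx', rtd_eq_δ f hU hW e ξ hξ, hxq]
      exact hδ

theorem exists_good (f : X ⟶ S) [IsIntegral S] [IsLocallyNoetherian S] [LocallyOfFiniteType f] [QuasiCompact f]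
    (F : X.Modules) (hF : Coh.IsCoh F) :
    ∃ V : S.Opens, genericPoint S ∈ V ∧ SGood f F (genericPoint S) V Set.univ := by
  classical
  obtain ⟨W, hW, hηW, -⟩ := exists_isAffineOpen_mem_and_subset
    (x := genericPoint S) (U := ⊤) trivial
  have hcomp : IsCompact ((f ⁻¹ᵁ W : X.Opens) : Set X) :=
    QuasiCompact.isCompact_preimage _ W.isOpen hW.isCompact
  obtain ⟨s, hs, hs'⟩ := isCompact_and_isOpen_iff_finite_and_eq_biUnion_affineOpens.mp
    ⟨hcomp, (f ⁻¹ᵁ W).isOpen⟩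
  have hle : ∀ i ∈ s, (i : X.Opens) ≤ f ⁻¹ᵁ W := by
    intro i hi x hx
    have : x ∈ ((f ⁻¹ᵁ W : X.Opens) : Set X) := by
      rw [hs']
      exact Set.mem_biUnion hi hx
    exact this
  have key : ∀ i : X.affineOpens, ∃ V : S.Opens, genericPoint S ∈ V ∧
      (i ∈ s → SGood f F (genericPoint S) V (i : X.Opens)) := by
    intro i
    by_cases hi : i ∈ s
    · obtain ⟨V, hV, h'⟩ := exists_chart f F hF i.2 hW (hle i hi) hηW
      exact ⟨V, hV, fun _ => h'⟩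
    · exact ⟨⊤, trivial, fun h => (hi h).elim⟩
  choose V hV hV' using key
  let V' : S.Opens := ⟨⋂ i ∈ s, (V i : Set S), hs.isOpen_biInter fun i _ => (V i).isOpen⟩
  have hV'le : ∀ i ∈ s, V' ≤ V i := fun i hi x hx => Set.mem_iInter₂.mp hx i hi
  have h1 : SGood f F (genericPoint S) V' (f ⁻¹ᵁ W) := by
    rw [hs']
    exact SGood.biUnion fun i hi => (hV' i hi).mono (hV'le i hi)
  exact ⟨V' ⊓ W, ⟨Set.mem_iInter₂.mpr fun i _ => hV i, hηW⟩, h1.univ hηW⟩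

end Good

end K119.GenSch
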