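import Groth.Agent.Pic13.H504.GenFlat
import Groth.Agent.Ega3B.FlatRestrict
import Groth.Agent.Cons9.K119.GenSch
import Groth.Agent.PerfC.FPSections

/-!
# Generic flatness and points over the points of a neighbourhood of the generic point (schemes)

* `exists_nhd_isFlatOverAt`: generic flatness over an integral base, for coherent modules.
* `exists_nhd_specialization`: a point over the generic point specializes to points over all the points of some
  neighbourhood.
-/

set_option autoImplicit false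
universe u

namespace K119.GenFlatSch

open AlgebraicGeometry CategoryTheory CategoryTheory.Limits
open Groth.Agent.Flat2E.RelAssAlg Groth.Agent.Flat2E.RelAssSch Groth.Agent.Fdesc.QCohStalk K119.GenSch

theorem exists_nhd_isFlatOverAt {X S : Scheme.{u}} [IsIntegral S] (f : X ⟶ S) [LocallyOfFiniteType f] [QuasiCompact f]
    (F : X.Modules) (hF : CohB1.IsFP F) :
    ∃ V : S.Opens, genericPoint S ∈ V ∧ ∀ x : X, f x ∈ V → FlatMod.IsFlatOverAt f F x := by
  obtain ⟨W, hW, hηW, -⟩ := exists_isAffineOpen_mem_and_subset (x := genericPoint S) (U := ⊤) trivial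
  have hWa : IsAffine W := hW
  have hWn : Nonempty W := ⟨⟨_, hηW⟩⟩
  let i : (W : Scheme.{u}) ⟶ S := W.ι
  let j : ((f ⁻¹ᵁ W : X.Opens) : Scheme.{u}) ⟶ X := (f ⁻¹ᵁ W).ι
  let q : ((f ⁻¹ᵁ W : X.Opens) : Scheme.{u}) ⟶ (W : Scheme.{u}) := f ∣_ W
  have hcomm : j ≫ f = q ≫ i := (morphismRestrict_ι f W).symm
  have hFr : Coh.IsCoh (F.restrict j) := by
    exact Groth.Agent.Models2.FPCoh.isCoh_of_isFP (Groth.Agent.PerfC.FPSections.isFP_restrict j hF)
  obtain ⟨a, ha, h⟩ := Groth.Agent.Pic13.H504.GenFlat.exists_isFlatOverAt' q (F.restrict j) hFr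
  refine ⟨i ''ᵁ (W : Scheme.{u}).basicOpen a, ?_, ?_⟩
  · have hne : (i ''ᵁ (W : Scheme.{u}).basicOpen a : Set S).Nonempty := by
      have h1 : ((W : Scheme.{u}).basicOpen a : Set (W : Scheme.{u})).Nonempty := by
        rw [Set.nonempty_iff_ne_empty]
        intro h0
        apply ha
        rw [← basicOpen_eq_bot_iff]
        exact TopologicalSpace.Opens.ext h0
      exact h1.image _
    exact ((genericPoint_spec S).mem_open_set_iff (i ''ᵁ (W : Scheme.{u}).basicOpen a).isOpen).mpr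
      (by simpa using hne)
  · rintro x ⟨w, hw, hwx⟩
    have hxW : x ∈ f ⁻¹ᵁ W := by
      change f x ∈ W
      rw [← hwx]
      exact w.2
    have h1 : q ⟨x, hxW⟩ = w := by
      apply W.ι.isOpenEmbedding.injective
      change W.ι (q ⟨x, hxW⟩) = W.ι w
      have h2 : W.ι (q ⟨x, hxW⟩) = f (j ⟨x, hxW⟩) := congr($hcomm ⟨x, hxW⟩).symm
      rw [h2]
      exact hwx.symm
    have h2 := h ⟨x, hxW⟩ (by
      change q ⟨x, hxW⟩ ∈ _
      rw [h1]
      exact hw)
    exact (Groth.Agent.Ega3B.FlatRestrict.isFlatOverAt_restrict_iff f q j i hcomm F ⟨x, hxW⟩).mp h2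

theorem exists_nhd_specialization {X S : Scheme.{u}} [IsIntegral S] (f : X ⟶ S) [LocallyOfFiniteType f]
    (x : X) (hx : f x = genericPoint S) :
    ∃ V : S.Opens, genericPoint S ∈ V ∧ ∀ s ∈ V, ∃ z : X, f z = s ∧ x ⤳ z := by
  obtain ⟨W, hW, hηW, -⟩ := exists_isAffineOpen_mem_and_subset (x := genericPoint S) (U := ⊤) trivial
  obtain ⟨U, hU, hxU, e⟩ := exists_isAffineOpen_mem_and_subset (x := x) (U := f ⁻¹ᵁ W)
    (by change f x ∈ W; rw [hx]; exact hηW)
  have e : U ≤ f ⁻¹ᵁ W := e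
  have hWn : Nonempty W := ⟨⟨_, hηW⟩⟩
  letI : Algebra Γ(S, W) Γ(X, U) := (f.appLE W U e).hom.toAlgebra
  have : Algebra.FiniteType Γ(S, W) Γ(X, U) := f.finiteType_appLE hW hU e
  obtain ⟨r, hr, h⟩ := exists_ne_zero_exists_over Γ(S, W) (hU.primeIdealOf ⟨x, hxU⟩).asIdeal
    ((comap_eq_bot_iff f hU hW e x hxU).mpr hx)
  refine ⟨S.basicOpen r, ?_, fun s hs => ?_⟩
  · rw [mem_basicOpen_iff hW _ hηW r, primeIdealOf_generic hW hηW, Ideal.mem_bot]
    exact hr
  · have hsW : s ∈ W := S.basicOpen_le r hs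
    obtain ⟨q, hq, hle, hqs⟩ := h (hW.primeIdealOf ⟨s, hsW⟩).asIdeal inferInstance ((mem_basicOpen_iff hW s hsW r).mp hs)
    obtain ⟨hz, hzq⟩ := primeIdealOf_fromSpec hU ⟨q, hq⟩
    set z := hU.fromSpec ⟨q, hq⟩ with hzdef
    have hzq' : (hU.primeIdealOf ⟨z, hz⟩).asIdeal = q := congr_arg PrimeSpectrum.asIdeal hzq
    refine ⟨z, ?_, ?_⟩
    · have h1 := comap_eq f hU hW e z hz
      rw [hzq'] at h1
      exact congr_arg Subtype.val (primeIdealOf_injective hW (PrimeSpectrum.ext (h1.symm.trans hqs)))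
    · refine (primeIdealOf_le_iff hU ⟨x, hxU⟩ ⟨z, hz⟩).mp ?_
      rw [hzq]
      exact hle

end K119.GenFlatSch
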