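import Groth.Agent.Cons9.K119.GenDev
import Mathlib.RingTheory.Ideal.AssociatedPrime.Finiteness

/-!
# Associated primes of the fibres near the generic point of the base: the package (ring level)

`R` is a Noetherian domain, `B` a finite type `R`-algebra, `M` a finite `B`-module, `A0 R (⊥ : Submodule B M)` the set
of the primes associated to the generic fibre of `M`. `exists_good` says that for all primes `q` of `B` over a dense
open of `Spec R`:
(i) if `q` is associated to `M` on its fibre then there is `P ∈ A0` with `P ≤ q` and `δ q = δ P`;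
(ii) if `P ∈ A0`, `P ≤ q` and `δ q = δ P` then `q` is associated to `M` on its fibre;
(iii) if `P ∈ A0`, `P ≤ q` then `δ q ≤ δ P`, with equality iff `q` is minimal in its fibre among the primes over `P`;
(iv) if `P, P' ∈ A0`, `P, P' ≤ q` and `δ q = δ P` then `P' ≤ P`;
(v) for each prime `p` of the open set and `P ∈ A0` there is `q` over `p` with `P ≤ q` and `δ q = δ P`;
(vi) if `P ∈ A0`, `P ≤ q` then there is `q'` in the same fibre with `P ≤ q' ≤ q` and `δ q' = δ P`.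
-/

set_option autoImplicit false
universe u

namespace K119.GenPack

open Groth.Agent.Flat2E.RelAssAlg Groth.Agent.CycB.TrdegAlg TensorProduct Cardinal K119.GenTB K119.GenAss K119.GenDev

section Prime

variable {R B : Type u} [CommRing R] [IsDomain R] [CommRing B] [Algebra R B] [Algebra.FiniteType R B]

theorem locAss_bot_quotient {P q : Ideal B} [hP : P.IsPrime] [hq : q.IsPrime]
    (h : LocAss (⊥ : Submodule B (B ⧸ P)) q) : q = P := by
  obtain ⟨m, h1, h2⟩ := h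
  obtain ⟨m, rfl⟩ := Ideal.Quotient.mk_surjective m
  have key : ∀ b : B, b • Ideal.Quotient.mk P m ∈ (⊥ : Submodule B (B ⧸ P)) ↔ b * m ∈ P := by
    intro b
    rw [Submodule.mem_bot, ← Ideal.Quotient.eq_zero_iff_mem, map_mul]
    rfl
  have hm : m ∉ P := fun h => h1 1 ((Ideal.ne_top_iff_one q).mp hq.ne_top) ((key 1).mpr (by rwa [one_mul]))
  apply le_antisymm
  · intro a ha
    obtain ⟨n, s, hs, hsn⟩ := h2 a ha
    rw [key] at hsn
    rcases hP.mem_or_mem ((hP.mem_or_mem hsn).resolve_right hm) with h3 | h3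
    · exact absurd ((key s).mpr (Ideal.mul_mem_right _ _ h3)) (h1 s hs)
    · exact hP.mem_of_pow_mem n h3
  · intro a ha
    by_contra haq
    exact h1 a haq ((key a).mpr (Ideal.mul_mem_right _ _ ha))

/-- The fibres of `B ⧸ P` are equidimensional, near the generic point. -/
theorem exists_prime (P : Ideal B) [hP : P.IsPrime] (hPR : P.comap (algebraMap R B) = ⊥) :
    ∃ r : R, r ≠ 0 ∧ ∀ q : Ideal B, q.IsPrime → r ∉ q.comap (algebraMap R B) → P ≤ q →
      δ R q ≤ δ R P ∧ (MinOver R P q ↔ δ R q = δ R P) := by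
  obtain ⟨r, hr, h⟩ := torsionFree_case (R := R) (B := B) (T := B ⧸ P) P hPR
    (by
      intro a ha m
      obtain ⟨m, rfl⟩ := Ideal.Quotient.mk_surjective m
      change Ideal.Quotient.mk P (a * m) = 0
      rw [Ideal.Quotient.eq_zero_iff_mem]
      exact Ideal.mul_mem_right _ _ ha)
    (fun q hq _ hass => locAss_bot_quotient hass)
  refine ⟨r, hr, fun q hq hrq hPq => ?_⟩
  obtain ⟨q', hq', hle, hc, hmin⟩ := exists_minOver (R := R) hPq
  have e := (h q' hq' (by rwa [hc]) hmin.RA).2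
  by_cases hqq : q' = q
  · subst hqq
    exact ⟨e.le, fun _ => e, fun _ => hmin⟩
  · have hlt := δ_lt (R := R) q q' hc (lt_of_le_of_ne hle hqq)
    rw [e] at hlt
    exact ⟨hlt.le, fun hm => absurd (hm.2 q' hq' hmin.1 hc hle) hqq, fun he => absurd he hlt.ne⟩

/-- Two irreducible components of the generic fibre. -/
theorem exists_two (P P' : Ideal B) [hP : P.IsPrime] (hPR : P.comap (algebraMap R B) = ⊥) :
    ∃ r : R, r ≠ 0 ∧ ∀ q : Ideal B, q.IsPrime → r ∉ q.comap (algebraMap R B) → P ≤ q → P' ≤ q →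
      δ R q = δ R P → P' ≤ P := by
  by_cases hPP : P' ≤ P
  · exact ⟨1, one_ne_zero, fun _ _ _ _ _ _ => hPP⟩
  obtain ⟨r₁, hr₁, h₁⟩ := exists_prime P hPR
  obtain ⟨r₂, hr₂, h₂⟩ := exists_ne_zero_not_le (R := R) (B := B) (M := B ⧸ P) P'
    (fun q hq _ hass => by rw [locAss_bot_quotient hass]; exact hPP)
  refine ⟨r₁ * r₂, mul_ne_zero hr₁ hr₂, fun q hq hrq hPq hP'q he => ?_⟩
  have hr₁q : r₁ ∉ q.comap (algebraMap R B) := fun h => hrq (Ideal.mul_mem_right _ _ h)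
  have hr₂q : r₂ ∉ q.comap (algebraMap R B) := fun h => hrq (Ideal.mul_mem_left _ _ h)
  have hmin := ((h₁ q hq hr₁q hPq).2).mpr he
  exact (h₂ _ (Ideal.comap_isPrime _ _) hr₂q q hq rfl hmin.RA hP'q).elim

/-- There are points of relative dimension that of `P` over `P`. -/
theorem exists_over (P : Ideal B) [hP : P.IsPrime] (hPR : P.comap (algebraMap R B) = ⊥) :
    ∃ r : R, r ≠ 0 ∧ ∀ p : Ideal R, p.IsPrime → r ∉ p →
      ∃ q : Ideal B, q.IsPrime ∧ q.comap (algebraMap R B) = p ∧ P ≤ q ∧ δ R q = δ R P := by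
  obtain ⟨r₁, hr₁, h₁⟩ := exists_prime P hPR
  obtain ⟨r₂, hr₂, h₂⟩ := exists_ne_zero_exists_over R P hPR
  refine ⟨r₁ * r₂, mul_ne_zero hr₁ hr₂, fun p hp hrp => ?_⟩
  have hr₁q : r₁ ∉ p := fun h => hrp (Ideal.mul_mem_right _ _ h)
  have hr₂q : r₂ ∉ p := fun h => hrp (Ideal.mul_mem_left _ _ h)
  obtain ⟨q, hq, hPq, hqp⟩ := h₂ p hp hr₂q
  obtain ⟨q', hq', hle, hc, hmin⟩ := exists_minOver (R := R) hPq
  exact ⟨q', hq', hc.trans hqp, hmin.1, ((h₁ q' hq' (by rwa [hc, hqp]) hmin.1).2).mp hmin⟩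

end Prime

section Pack

variable (R : Type u) {B : Type u} (M : Type u) [CommRing R] [CommRing B] [Algebra R B] [AddCommGroup M] [Module B M]

/-- The good behaviour of the primes associated to the fibres over `p` for all primes `p` not containing `r`. -/
structure Good (r : R) : Prop where
  i : ∀ q : Ideal B, q.IsPrime → r ∉ q.comap (algebraMap R B) → RA R M q →
    ∃ P ∈ A0 R (⊥ : Submodule B M), P ≤ q ∧ δ R q = δ R P
  ii : ∀ q : Ideal B, q.IsPrime → r ∉ q.comap (algebraMap R B) → ∀ P ∈ A0 R (⊥ : Submodule B M), P ≤ q →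
    δ R q = δ R P → RA R M q
  iii : ∀ q : Ideal B, q.IsPrime → r ∉ q.comap (algebraMap R B) → ∀ P ∈ A0 R (⊥ : Submodule B M), P ≤ q →
    δ R q ≤ δ R P
  iv : ∀ q : Ideal B, q.IsPrime → r ∉ q.comap (algebraMap R B) → ∀ P ∈ A0 R (⊥ : Submodule B M),
    ∀ P' ∈ A0 R (⊥ : Submodule B M), P ≤ q → P' ≤ q → δ R q = δ R P → P' ≤ P
  v : ∀ p : Ideal R, p.IsPrime → r ∉ p → ∀ P ∈ A0 R (⊥ : Submodule B M),
    ∃ q : Ideal B, q.IsPrime ∧ q.comap (algebraMap R B) = p ∧ P ≤ q ∧ δ R q = δ R P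
  vi : ∀ q : Ideal B, q.IsPrime → r ∉ q.comap (algebraMap R B) → ∀ P ∈ A0 R (⊥ : Submodule B M), P ≤ q →
    ∃ q' : Ideal B, q'.IsPrime ∧ q'.comap (algebraMap R B) = q.comap (algebraMap R B) ∧ P ≤ q' ∧ q' ≤ q ∧
      δ R q' = δ R P

theorem finite_A0 [IsNoetherianRing B] [Module.Finite B M] : (A0 R (⊥ : Submodule B M)).Finite := by
  refine (associatedPrimes.finite B M).subset ?_
  rintro P ⟨hP, -, x, hx⟩
  refine ⟨hP, x, ?_⟩
  have hP' : P = (⊥ : Submodule B M).colon {x} := by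
    ext b
    rw [Submodule.mem_colon_singleton, hx]
  rw [← hP', hP.radical]

theorem exists_good [IsDomain R] [IsNoetherianRing R] [Algebra.FiniteType R B] [Module.Finite B M] :
    ∃ r : R, r ≠ 0 ∧ Good (B := B) R M r := by
  classical
  let _ : Module R M := Module.compHom M (algebraMap R B)
  have : IsScalarTower R B M := IsScalarTower.of_algebraMap_smul fun r m => rfl
  have hB : IsNoetherianRing B := Algebra.FiniteType.isNoetherianRing R B
  have hfin := finite_A0 R (B := B) M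
  have hone : ∀ (Φ : Ideal B → R → Prop), (∀ P ∈ A0 R (⊥ : Submodule B M), ∃ r : R, r ≠ 0 ∧ Φ P r) →
      (∀ P r s, Φ P r → Φ P (r * s)) → ∃ r : R, r ≠ 0 ∧ ∀ P ∈ A0 R (⊥ : Submodule B M), Φ P r := by
    intro Φ h hmul
    choose! r hr h' using h
    refine ⟨∏ P ∈ hfin.toFinset, r P, Finset.prod_ne_zero_iff.mpr fun P hP => hr P (by simpa using hP), ?_⟩
    intro P hP
    obtain ⟨c, hc⟩ : r P ∣ ∏ P ∈ hfin.toFinset, r P := Finset.dvd_prod_of_mem _ (by simpa using hP)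
    rw [hc]
    exact hmul _ _ _ (h' P hP)
  have hA : ∀ P ∈ A0 R (⊥ : Submodule B M), ∃ r : R, r ≠ 0 ∧ ∀ q : Ideal B, q.IsPrime →
      r ∉ q.comap (algebraMap R B) → P ≤ q → (δ R q ≤ δ R P ∧ (MinOver R P q ↔ δ R q = δ R P)) ∧
        (MinOver R P q → RA R M q) := by
    rintro P ⟨hP, hPR, x, hx⟩
    obtain ⟨r₁, hr₁, h₁⟩ := exists_prime P hPR
    obtain ⟨r₂, hr₂, h₂⟩ := exists_RA_of_annihilator (R := R) x P (fun b => by rw [← hx, Submodule.mem_bot])
    refine ⟨r₁ * r₂, mul_ne_zero hr₁ hr₂, fun q hq hrq hPq => ?_⟩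
    have hr₁q : r₁ ∉ q.comap (algebraMap R B) := fun h => hrq (Ideal.mul_mem_right _ _ h)
    have hr₂q : r₂ ∉ q.comap (algebraMap R B) := fun h => hrq (Ideal.mul_mem_left _ _ h)
    exact ⟨h₁ q hq hr₁q hPq, h₂ q hq hr₂q⟩
  obtain ⟨r₁, hr₁, h₁⟩ := dev (R := R) (⊥ : Submodule B M)
  obtain ⟨r₂, hr₂, h₂⟩ := hone _ hA (fun P r s h q hq hrs hPq => h q hq (fun h => hrs (Ideal.mul_mem_right _ _ h)) hPq)
  obtain ⟨r₃, hr₃, h₃⟩ := hone (fun P r => ∀ p : Ideal R, p.IsPrime → r ∉ p →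
      ∃ q : Ideal B, q.IsPrime ∧ q.comap (algebraMap R B) = p ∧ P ≤ q ∧ δ R q = δ R P)
    (fun P hP => by have := hP.1; exact exists_over P hP.2.1)
    (fun P r s h p hp hrs => h p hp (fun h => hrs (Ideal.mul_mem_right _ _ h)))
  obtain ⟨r₄, hr₄, h₄⟩ := hone (fun P r => ∀ P' ∈ A0 R (⊥ : Submodule B M), ∀ q : Ideal B, q.IsPrime →
      r ∉ q.comap (algebraMap R B) → P ≤ q → P' ≤ q → δ R q = δ R P → P' ≤ P)
    (fun P hP => hone (fun P' r => ∀ q : Ideal B, q.IsPrime →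
      r ∉ q.comap (algebraMap R B) → P ≤ q → P' ≤ q → δ R q = δ R P → P' ≤ P)
      (fun P' hP' => by have := hP.1; exact exists_two P P' hP.2.1)
      (fun P' r s h q hq hrs => h q hq (fun h => hrs (Ideal.mul_mem_right _ _ h))))
    (fun P r s h P' hP' q hq hrs => h P' hP' q hq (fun h => hrs (Ideal.mul_mem_right _ _ h)))
  refine ⟨r₁ * r₂ * r₃ * r₄, mul_ne_zero (mul_ne_zero (mul_ne_zero hr₁ hr₂) hr₃) hr₄, ?_⟩
  have key : ∀ I : Ideal R, r₁ * r₂ * r₃ * r₄ ∉ I → r₁ ∉ I ∧ r₂ ∉ I ∧ r₃ ∉ I ∧ r₄ ∉ I := by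
    intro I h
    refine ⟨fun h' => h ?_, fun h' => h ?_, fun h' => h ?_, fun h' => h ?_⟩
    · exact Ideal.mul_mem_right _ _ (Ideal.mul_mem_right _ _ (Ideal.mul_mem_right _ _ h'))
    · exact Ideal.mul_mem_right _ _ (Ideal.mul_mem_right _ _ (Ideal.mul_mem_left _ _ h'))
    · exact Ideal.mul_mem_right _ _ (Ideal.mul_mem_left _ _ h')
    · exact Ideal.mul_mem_left _ _ h'
  refine ⟨fun q hq hr hRA => ?_, fun q hq hr P hP hPq he => ?_, fun q hq hr P hP hPq => ?_,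
    fun q hq hr P hP P' hP' hPq hP'q he => ?_, fun p hp hr P hP => ?_, fun q hq hr P hP hPq => ?_⟩
  · exact h₁ q hq (key _ hr).1 (RA_congr (Submodule.quotEquivOfEqBot (⊥ : Submodule B M) rfl).symm q hRA)
  · exact ((h₂ P hP q hq (key _ hr).2.1 hPq).2) ((h₂ P hP q hq (key _ hr).2.1 hPq).1.2.mpr he)
  · exact (h₂ P hP q hq (key _ hr).2.1 hPq).1.1
  · exact h₄ P hP P' hP' q hq (key _ hr).2.2.2 hPq hP'q he
  · exact h₃ P hP p hp (key _ hr).2.2.1
  · obtain ⟨q', hq', hle, hc, hmin⟩ := exists_minOver (R := R) hPq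
    exact ⟨q', hq', hc, hmin.1, hle, (h₂ P hP q' hq' (by rw [hc]; exact (key _ hr).2.1) hmin.1).1.2.mp hmin⟩

end Pack

end K119.GenPack
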