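import Groth.Agent.Flat2E.RelAssAlg
import Groth.Agent.CycB.TrdegAlg
import Mathlib.RingTheory.Algebraic.Integral
import Mathlib.RingTheory.Regular.IsSMulRegular
import Mathlib.RingTheory.Polynomial.Basic

/-!
# Relative transcendence degrees and relatively associated primes near the generic point

* `RA R M q`: the prime `q` of `B` is associated to `M` on the fibre through `q`.
* `δ R q`: the transcendence degree of `B ⧸ q` over `R ⧸ q ∩ R`.
* `eq_card_of`: if `x : ι → B` is algebraically independent modulo `q` over `R ⧸ q ∩ R` and `q` avoids a suitable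
  element `g` then `δ R q` is the cardinality of `ι`.
-/

set_option autoImplicit false
universe u

namespace K119.GenTB

open Groth.Agent.Flat2E.RelAssAlg Groth.Agent.CycB.TrdegAlg TensorProduct Cardinal

/-- `q` is associated to the module `M` on the fibre through `q`. -/
def RA (R : Type*) {B : Type*} (M : Type*) [CommRing R] [CommRing B] [Algebra R B] [AddCommGroup M]
    [Module B M] (q : Ideal B) : Prop :=
  LocAss ((q.comap (algebraMap R B)).map (algebraMap R B) • (⊤ : Submodule B M)) q

/-- The relative transcendence degree of the residue field at `q`. -/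
noncomputable def δ (R : Type u) {B : Type u} [CommRing R] [CommRing B] [Algebra R B] (q : Ideal B) :
    Cardinal.{u} :=
  trd (Ideal.quotientMap q (algebraMap R B) (le_refl (q.comap (algebraMap R B))))

theorem δ_eq (R : Type u) {B : Type u} [CommRing R] [CommRing B] [Algebra R B] (q : Ideal B) (p : Ideal R)
    (hp : p = q.comap (algebraMap R B)) :
    δ R q = trd (Ideal.quotientMap q (algebraMap R B) hp.le) := by
  subst hp
  rfl

theorem δ_lt (R : Type u) {B : Type u} [CommRing R] [CommRing B] [Algebra R B] [Algebra.FiniteType R B]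
    (q q' : Ideal B) [q.IsPrime] [q'.IsPrime]
    (h : q'.comap (algebraMap R B) = q.comap (algebraMap R B)) (hlt : q' < q) : δ R q < δ R q' := by
  have := trd_quotientMap_lt (algebraMap R B) (RingHom.finiteType_algebraMap.mpr ‹_›)
    (q.comap (algebraMap R B)) q q' rfl h.symm hlt
  rwa [← δ_eq R q _ rfl, ← δ_eq R q' _ h.symm] at this

section Regular

variable {D T : Type u} [CommRing D] [AddCommGroup T] [Module D T]

/-- Regularity modulo an ideal passes to flat modules. -/
theorem mem_smul_top_of_flat [Module.Flat D T] (J : Ideal D) (b : D) (hb : ∀ c, b * c ∈ J → c ∈ J)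
    (x : T) (hx : b • x ∈ J • (⊤ : Submodule D T)) : x ∈ J • (⊤ : Submodule D T) := by
  have h1 : IsSMulRegular (D ⧸ J) b := by
    rw [isSMulRegular_iff_right_eq_zero_of_smul]
    intro y hy
    obtain ⟨y, rfl⟩ := Ideal.Quotient.mk_surjective y
    rw [Ideal.Quotient.eq_zero_iff_mem]
    apply hb
    rw [← Ideal.Quotient.eq_zero_iff_mem, ← hy]
    rfl
  have h2 : IsSMulRegular (T ⧸ (J • (⊤ : Submodule D T))) b := by
    have h3 : IsSMulRegular ((D ⧸ J) ⊗[D] T) b := h1.rTensor T
    exact (TensorProduct.quotTensorEquivQuotSMul T J).isSMulRegular_congr b |>.mp h3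
  rw [← Submodule.Quotient.mk_eq_zero]
  apply h2.right_eq_zero_of_smul
  rw [← Submodule.Quotient.mk_smul, Submodule.Quotient.mk_eq_zero]
  exact hx

/-- The version where `T` is only flat after inverting `g`. -/
theorem exists_pow_smul_mem (J : Ideal D) (g b : D)
    (hflat : Module.Flat D (LocalizedModule (Submonoid.powers g) T))
    (hb : ∀ c, b * c ∈ J → c ∈ J) (x : T) (hx : b • x ∈ J • (⊤ : Submodule D T)) :
    ∃ k : ℕ, g ^ k • x ∈ J • (⊤ : Submodule D T) := by
  set ℓ := LocalizedModule.mkLinearMap (Submonoid.powers g) T with hℓ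
  have hmap : ∀ y ∈ J • (⊤ : Submodule D T), ℓ y ∈
      J • (⊤ : Submodule D (LocalizedModule (Submonoid.powers g) T)) := by
    intro y hy
    have h1 : ℓ y ∈ (J • (⊤ : Submodule D T)).map ℓ := ⟨y, hy, rfl⟩
    rw [Submodule.map_smul''] at h1
    exact Submodule.smul_mono le_rfl le_top h1
  have h1 : b • ℓ x ∈ J • (⊤ : Submodule D (LocalizedModule (Submonoid.powers g) T)) := by
    rw [← map_smul]
    exact hmap _ hx
  have h2 := mem_smul_top_of_flat J b hb (ℓ x) h1
  -- descend
  have key : ∀ y ∈ J • (⊤ : Submodule D (LocalizedModule (Submonoid.powers g) T)),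
      ∃ k : ℕ, ∃ z ∈ J • (⊤ : Submodule D T), g ^ k • y = ℓ z := by
    intro y hy
    induction hy using Submodule.smul_induction_on' with
    | smul r hr n _ =>
      obtain ⟨m, ⟨_, k, rfl⟩, rfl⟩ := exists_mk (Submonoid.powers g) n
      refine ⟨k, r • m, Submodule.smul_mem_smul hr trivial, ?_⟩
      rw [smul_comm, map_smul]
      congr 1
      change (g ^ k) • LocalizedModule.mk m _ = LocalizedModule.mk m 1
      rw [LocalizedModule.smul'_mk]
      exact LocalizedModule.mk_cancel (⟨g ^ k, k, rfl⟩ : Submonoid.powers g) m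
    | add y _ y' _ h h' =>
      obtain ⟨k, z, hz, e⟩ := h
      obtain ⟨k', z', hz', e'⟩ := h'
      refine ⟨k + k', g ^ k' • z + g ^ k • z', Submodule.add_mem _ (Submodule.smul_mem _ _ hz)
        (Submodule.smul_mem _ _ hz'), ?_⟩
      rw [map_add, map_smul, map_smul, ← e, ← e', smul_add, smul_smul, smul_smul, pow_add,
        mul_comm (g ^ k)]
  obtain ⟨k, z, hz, e⟩ := key _ h2
  rw [← map_smul] at e
  have h3 : ℓ (g ^ k • x - z) = 0 := by rw [map_sub, e, sub_self]
  obtain ⟨⟨_, l, rfl⟩, hl⟩ := (IsLocalizedModule.eq_zero_iff (Submonoid.powers g) ℓ).mp h3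
  refine ⟨l + k, ?_⟩
  have h4 : g ^ l • (g ^ k • x - z) = 0 := hl
  rw [smul_sub, sub_eq_zero, smul_smul, ← pow_add] at h4
  rw [h4]
  exact Submodule.smul_mem _ _ hz

end Regular

section TB

variable {R B : Type u} [CommRing R] [CommRing B] [Algebra R B] {ι : Type u}

/-- If the `x i` are algebraically independent modulo `q` over `R ⧸ (q ∩ R)` (expressed by polynomials over `R`) and the
residues modulo `q` of the elements of `B` are algebraic over them, then `δ R q = #ι`. -/
theorem δ_eq_card (x : ι → B) (q : Ideal B) [q.IsPrime]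
    (hind : ∀ a : MvPolynomial ι R, MvPolynomial.aeval x a ∈ q →
      a ∈ (q.comap (algebraMap R B)).map (MvPolynomial.C : R →+* MvPolynomial ι R))
    (s : Set B) (hs : Algebra.adjoin R s = ⊤)
    (halg : ∀ b ∈ s, ∃ P : Polynomial (MvPolynomial ι R),
      MvPolynomial.aeval x P.leadingCoeff ∉ q ∧
      Polynomial.eval₂ (MvPolynomial.aeval x : MvPolynomial ι R →ₐ[R] B).toRingHom b P ∈ q) :
    δ R q = #ι := by
  set p := q.comap (algebraMap R B) with hp
  let φ : R ⧸ p →+* B ⧸ q := Ideal.quotientMap q (algebraMap R B) (le_refl _)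
  let _ : Algebra (R ⧸ p) (B ⧸ q) := φ.toAlgebra
  have hpp : p.IsPrime := Ideal.comap_isPrime _ _
  have hst : IsScalarTower R (R ⧸ p) (B ⧸ q) := IsScalarTower.of_algebraMap_eq fun r => rfl
  let y : ι → B ⧸ q := fun i => Ideal.Quotient.mk q (x i)
  have hy : ∀ a : MvPolynomial ι R, MvPolynomial.aeval y (MvPolynomial.map (Ideal.Quotient.mk p) a) =
      Ideal.Quotient.mk q (MvPolynomial.aeval x a) := by
    intro a
    induction a using MvPolynomial.induction_on with
    | C r =>
      rw [MvPolynomial.map_C, MvPolynomial.aeval_C, MvPolynomial.aeval_C]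
      rfl
    | add a b ha hb => rw [map_add, map_add, map_add, map_add, ha, hb]
    | mul_X a i ha => rw [map_mul, map_mul, map_mul, map_mul, ha, MvPolynomial.map_X,
        MvPolynomial.aeval_X, MvPolynomial.aeval_X]
  have hyi : AlgebraicIndependent (R ⧸ p) y := by
    rw [algebraicIndependent_iff]
    intro P hP
    obtain ⟨a, rfl⟩ := MvPolynomial.map_surjective _ Ideal.Quotient.mk_surjective P
    rw [hy, Ideal.Quotient.eq_zero_iff_mem] at hP
    have h1 := hind a hP
    rw [MvPolynomial.mem_map_C_iff] at h1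
    ext m
    rw [MvPolynomial.coeff_map, MvPolynomial.coeff_zero, Ideal.Quotient.eq_zero_iff_mem]
    exact h1 m
  have hdom : IsDomain (Algebra.adjoin (R ⧸ p) (Set.range y)) := inferInstance
  have halg' : Algebra.IsAlgebraic (Algebra.adjoin (R ⧸ p) (Set.range y)) (B ⧸ q) := by
    let A₀ := Algebra.adjoin (R ⧸ p) (Set.range y)
    let C₀ := Subalgebra.algebraicClosure A₀ (B ⧸ q)
    have hle : ∀ b ∈ s, Ideal.Quotient.mk q b ∈ C₀ := by
      intro b hb
      obtain ⟨P, h1, h2⟩ := halg b hb
      let θ : MvPolynomial ι R →+* A₀ :=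
        ((MvPolynomial.aeval (R := R ⧸ p) (fun i => (⟨y i, Algebra.subset_adjoin ⟨i, rfl⟩⟩ : A₀))).toRingHom).comp
          (MvPolynomial.map (Ideal.Quotient.mk p))
      have hθ : ∀ a, (θ a : B ⧸ q) = Ideal.Quotient.mk q (MvPolynomial.aeval x a) := by
        intro a
        rw [← hy]
        change A₀.val (MvPolynomial.aeval _ _) = _
        rw [MvPolynomial.comp_aeval_apply]
        rfl
      refine ⟨P.map θ, ?_, ?_⟩
      · intro h0
        apply h1
        have h3 : (P.map θ).coeff P.natDegree = 0 := by rw [h0, Polynomial.coeff_zero]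
        rw [Polynomial.coeff_map] at h3
        rw [← Ideal.Quotient.eq_zero_iff_mem, ← hθ]
        have h4 : θ P.leadingCoeff = 0 := h3
        rw [h4]
        rfl
      · rw [Polynomial.aeval_def, Polynomial.eval₂_map]
        rw [← Ideal.Quotient.eq_zero_iff_mem, Polynomial.hom_eval₂] at h2
        rw [← h2]
        congr 1
        refine RingHom.ext fun a => ?_
        change (θ a : B ⧸ q) = _
        rw [hθ]
        rfl
    refine ⟨fun z => ?_⟩
    obtain ⟨b, rfl⟩ := Ideal.Quotient.mk_surjective z
    have hb : b ∈ Algebra.adjoin R s := by rw [hs]; trivial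
    change Ideal.Quotient.mk q b ∈ C₀
    induction hb using Algebra.adjoin_induction with
    | mem b hb => exact hle b hb
    | algebraMap r =>
      have : Ideal.Quotient.mk q (algebraMap R B r) =
        algebraMap A₀ (B ⧸ q) (algebraMap (R ⧸ p) A₀ (Ideal.Quotient.mk p r)) := rfl
      rw [this]
      exact C₀.algebraMap_mem _
    | add b b' _ _ h h' => rw [map_add]; exact C₀.add_mem h h'
    | mul b b' _ _ h h' => rw [map_mul]; exact C₀.mul_mem h h'
  have htb : IsTranscendenceBasis (R ⧸ p) y :=
    hyi.isTranscendenceBasis_iff_isAlgebraic.mpr halg'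
  have hinj : Function.Injective φ := Ideal.quotientMap_injective
  have : FaithfulSMul (R ⧸ p) (B ⧸ q) := (faithfulSMul_iff_algebraMap_injective _ _).mpr hinj
  have h := htb.cardinalMk_eq_trdeg
  rw [← trd_algebraMap] at h
  exact h.symm

end TB

end K119.GenTB
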