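import Groth.Agent.Cons9.K119.BCAss3
import Groth.Agent.Cons9.K119.ConstrPair

/-!
# The associated points of the fibres: a constructible invariant

`Inv f F s` is the set of pairs (relative dimension of `x`, is `x` maximal?) for `x` an associated point of the fibre `F_s`.
`fibInv`: it is a fibrewise invariant in the sense of `ConstrPair`, so `{s | Inv f F s ∈ P}` is locally constructible.
-/

set_option autoImplicit false
universe u

namespace K119.InvAss

open AlgebraicGeometry CategoryTheory CategoryTheory.Limits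
open K119.BCAss K119.BCAss3 K119.GenFib K119.GenSch Groth.Agent.CycB.RelDim

/-- `x` is maximal among the associated points of its fibre. -/
def IsMax {X S : Scheme.{u}} (f : X ⟶ S) (F : X.Modules) (x : X) : Prop :=
  ∀ y ∈ MoreMor.relAss f F, f y = f x → y ⤳ x → y = x

/-- The set of pairs (relative dimension, maximality) of the associated points of the fibre over `s`. -/
def Inv {X S : Scheme.{u}} (f : X ⟶ S) (F : X.Modules) (s : S) : Set (Cardinal.{u} × Prop) :=
  (fun x => (rtd f x, IsMax f F x)) '' {x | x ∈ MoreMor.relAss f F ∧ f x = s}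

section BC

variable {X S X' S' : Scheme.{u}} {f : X ⟶ S} {f' : X' ⟶ S'} {g' : X' ⟶ X} {g : S' ⟶ S}
  (h : IsPullback g' f' f g) [LocallyOfFiniteType f] (F : X.Modules)

include h

theorem isMax_iff {x' : X'} (hx' : x' ∈ MoreMor.relAss f' ((Scheme.Modules.pullback g').obj F)) :
    IsMax f' ((Scheme.Modules.pullback g').obj F) x' ↔ IsMax f F (g' x') := by
  rw [mem_relAss_iff h] at hx'
  constructor
  · intro hm y hy hfy hsp
    obtain ⟨y', rfl, h2, h3⟩ := exists_goingDown h hfy hsp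
    obtain ⟨y'', h4, h5, h6, h7⟩ := exists_maxOver h y'
    have h8 := hm y'' ((mem_relAss_iff h F y'').mpr ⟨by rw [h6]; exact hy, h7⟩) (h5.trans h2) (h4.trans h3)
    rw [← h6, h8]
  · intro hm y' hy' hfy hsp
    rw [mem_relAss_iff h] at hy'
    refine hx'.2 y' hfy (hm _ hy'.1 ?_ (hsp.map g'.continuous)) hsp
    rw [comm_apply h, comm_apply h, hfy]

theorem inv_baseChange (s' : S') : Inv f' ((Scheme.Modules.pullback g').obj F) s' = Inv f F (g s') := by
  ext a
  constructor
  · rintro ⟨x', ⟨hx', hs'⟩, rfl⟩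
    have h1 := (mem_relAss_iff h F x').mp hx'
    refine ⟨g' x', ⟨h1.1, by rw [comm_apply h, hs']⟩, ?_⟩
    simp only [rtd_eq h h1.2, isMax_iff h F hx']
  · rintro ⟨x, ⟨hx, hs⟩, rfl⟩
    obtain ⟨x', rfl, h2, h3⟩ := exists_maxOver_point h hs
    have hx' := (mem_relAss_iff h F x').mpr ⟨hx, h3⟩
    refine ⟨x', ⟨hx', h2⟩, ?_⟩
    simp only [rtd_eq h h3, isMax_iff h F hx']

end BC

theorem mem_relAss_congr {X S : Scheme.{u}} (f : X ⟶ S) {F F' : X.Modules} (e : F ≅ F') (x : X) :
    x ∈ MoreMor.relAss f F ↔ x ∈ MoreMor.relAss f F' := by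
  have h1 := mem_Ass_iff f F (f x) (f.asFiber x)
  have h2 := mem_Ass_iff f F' (f x) (f.asFiber x)
  rw [Scheme.Hom.fiberι_asFiber] at h1 h2
  rw [← h1, ← h2]
  exact mem_Ass_congr ((Scheme.Modules.pullback (f.fiberι (f x))).mapIso e) _

theorem relAss_congr {X S : Scheme.{u}} (f : X ⟶ S) {F F' : X.Modules} (e : F ≅ F') :
    MoreMor.relAss f F = MoreMor.relAss f F' := Set.ext (mem_relAss_congr f e)

theorem inv_congr {X S : Scheme.{u}} (f : X ⟶ S) {F F' : X.Modules} (e : F ≅ F') (s : S) :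
    Inv f F s = Inv f F' s := by
  unfold Inv IsMax
  rw [relAss_congr f e]

theorem inv_generic {X S : Scheme.{u}} (f : X ⟶ S) [LocallyOfFiniteType f] (F : X.Modules) {η : S} {V : S.Opens}
    (hg : SGood f F η V Set.univ) {s : S} (hs : s ∈ V) : Inv f F s = Inv f F η := by
  have key : ∀ ξ ∈ MoreMor.relAss f F, f ξ = η → ∀ z : f.fiber s, z ∈ Mx f s ξ →
      (rtd f (f.fiberι s z), IsMax f F (f.fiberι s z)) = (rtd f ξ, IsMax f F ξ) := by
    intro ξ hξ hη z hz
    have h1 := (mem_Mx_iff hg hs hξ hη z).mp hz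
    have h2 := maximal_iff hg hs hξ hη hz
    refine Prod.ext h1.2 (propext ?_)
    change IsMax f F (f.fiberι s z) ↔ IsMax f F ξ
    have h3 : IsMax f F ξ ↔ (∀ ξ' ∈ MoreMor.relAss f F, f ξ' = η → ξ' ⤳ ξ → ξ' = ξ) := by
      unfold IsMax
      rw [hη]
    rw [h3, ← h2]
    constructor
    · intro hm y hy hsp
      exact fiberι_injective f s (hm _ hy (by rw [apply_fiberι, apply_fiberι]) ((fiberι_specializes_iff f).mpr hsp))
    · intro hm y hy hfy hsp
      rw [apply_fiberι] at hfy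
      obtain ⟨y, rfl⟩ := exists_fiberι f hfy
      rw [hm y hy ((fiberι_specializes_iff f).mp hsp)]
  ext a
  constructor
  · rintro ⟨x, ⟨hx, hxs⟩, rfl⟩
    obtain ⟨z, rfl⟩ := exists_fiberι f hxs
    obtain ⟨ξ, hξ, hη, hz⟩ := (mem_relAss_iff_Mx hg hs z).mp hx
    exact ⟨ξ, ⟨hξ, hη⟩, (key ξ hξ hη z hz).symm⟩
  · rintro ⟨ξ, ⟨hξ, hη⟩, rfl⟩
    obtain ⟨z, hz⟩ := exists_mem_Mx hg hs hξ hη
    exact ⟨f.fiberι s z, ⟨(mem_relAss_iff_Mx hg hs z).mpr ⟨ξ, hξ, hη, hz⟩, apply_fiberι f s z⟩, key ξ hξ hη z hz⟩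

theorem fibInv : ConstrPair.FibInv.{u} (fun {_ _} f F s => Inv f F s) where
  iso f _ F F' e y := inv_congr f e.some y
  bc f _ f' g' g F _ h y' := inv_baseChange h F y'
  gen f _ _ _ _ F hF := by
    obtain ⟨V, hη, hg⟩ := exists_good f F hF
    exact ⟨V, hη, fun y hy => inv_generic f F hg hy⟩

/-- The sets of points where `Inv` has given values are locally constructible. -/
theorem isLocallyConstructible {X S : Scheme.{u}} (f : X ⟶ S) [LocallyOfFinitePresentation f] [QuasiCompact f]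
    [QuasiSeparated f] (F : X.Modules) (hF : CohB1.IsFP F) (P : Set (Set (Cardinal.{u} × Prop))) :
    Topology.IsLocallyConstructible {s : S | Inv f F s ∈ P} :=
  ConstrPair.isLocallyConstructible fibInv f F hF P

/-- The version over a locally Noetherian base. -/
theorem isLocallyConstructible_of_noetherian {X S : Scheme.{u}} (f : X ⟶ S) [IsLocallyNoetherian S]
    [LocallyOfFiniteType f] [QuasiCompact f] (F : X.Modules) (hF : CohB1.IsFP F)
    (P : Set (Set (Cardinal.{u} × Prop))) :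
    Topology.IsLocallyConstructible {s : S | Inv f F s ∈ P} :=
  ConstrPair.isLocallyConstructible_of_noetherian fibInv f F hF P

theorem noEmbedded_iff {X S : Scheme.{u}} (f : X ⟶ S) (F : X.Modules) (s : S) :
    AssSch.NoEmbedded ((Scheme.Modules.pullback (f.fiberι s)).obj F) ↔ ∀ a ∈ Inv f F s, a.2 := by
  constructor
  · rintro h _ ⟨x, ⟨hx, hxs⟩, rfl⟩ y hy hfy hsp
    obtain ⟨z, rfl⟩ := exists_fiberι f hxs
    rw [apply_fiberι] at hfy
    obtain ⟨y, rfl⟩ := exists_fiberι f hfy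
    rw [h z ((mem_Ass_iff f F s z).mpr hx) y ((mem_Ass_iff f F s y).mpr hy) ((fiberι_specializes_iff f).mp hsp)]
  · intro h z hz y hy hsp
    have h1 := h _ ⟨f.fiberι s z, ⟨(mem_Ass_iff f F s z).mp hz, apply_fiberι f s z⟩, rfl⟩
    apply fiberι_injective f s
    exact (h1 _ ((mem_Ass_iff f F s y).mp hy) (by rw [apply_fiberι, apply_fiberι])
      ((fiberι_specializes_iff f).mpr hsp)).symm

/-- The dimensions of the associated prime cycles of a fibre. -/
theorem image_dim_eq {X S : Scheme.{u}} (f : X ⟶ S) [LocallyOfFiniteType f] (F : X.Modules) (s : S) (Φ : Set ℕ) :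
    ((fun z : ↥(f.fiber s) => topologicalKrullDim ↥(closure ({z} : Set ↥(f.fiber s)))) ''
          AssSch.Ass ((Scheme.Modules.pullback (f.fiberι s)).obj F) = (fun n : ℕ => (n : WithBot ℕ∞)) '' Φ) ↔
      Prod.fst '' Inv f F s = (fun n : ℕ => (n : Cardinal.{u})) '' Φ := by
  have h1 : ∀ n : ℕ, (n : WithBot ℕ∞) ∈ (fun z : ↥(f.fiber s) =>
      topologicalKrullDim ↥(closure ({z} : Set ↥(f.fiber s)))) ''
        AssSch.Ass ((Scheme.Modules.pullback (f.fiberι s)).obj F) ↔ (n : Cardinal.{u}) ∈ Prod.fst '' Inv f F s := by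
    intro n
    constructor
    · rintro ⟨z, hz, hn⟩
      obtain ⟨m, hm, hm'⟩ := exists_dim_closure_fiber f s z
      change topologicalKrullDim ↥(closure ({z} : Set ↥(f.fiber s))) = n at hn
      rw [hm'] at hn
      have : m = n := by exact_mod_cast hn
      subst this
      exact ⟨_, ⟨f.fiberι s z, ⟨(mem_Ass_iff f F s z).mp hz, apply_fiberι f s z⟩, rfl⟩, hm⟩
    · rintro ⟨_, ⟨x, ⟨hx, hxs⟩, rfl⟩, hn⟩
      obtain ⟨z, rfl⟩ := exists_fiberι f hxs
      obtain ⟨m, hm, hm'⟩ := exists_dim_closure_fiber f s z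
      change rtd f (f.fiberι s z) = n at hn
      rw [hm] at hn
      have : m = n := by exact_mod_cast hn
      subst this
      exact ⟨z, (mem_Ass_iff f F s z).mpr hx, hm'⟩
  constructor
  · intro h
    ext c
    constructor
    · rintro ⟨_, ⟨x, ⟨hx, hxs⟩, rfl⟩, rfl⟩
      obtain ⟨z, rfl⟩ := exists_fiberι f hxs
      obtain ⟨m, hm, hm'⟩ := exists_dim_closure_fiber f s z
      have h2 : (m : WithBot ℕ∞) ∈ (fun n : ℕ => (n : WithBot ℕ∞)) '' Φ := by
        rw [← h]
        exact ⟨z, (mem_Ass_iff f F s z).mpr hx, hm'⟩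
      obtain ⟨n, hn, hn'⟩ := h2
      have : n = m := by
        change (n : WithBot ℕ∞) = m at hn'
        exact_mod_cast hn'
      subst this
      exact ⟨n, hn, hm.symm⟩
    · rintro ⟨n, hn, rfl⟩
      rw [← h1 n, h]
      exact ⟨n, hn, rfl⟩
  · intro h
    ext c
    constructor
    · rintro ⟨z, hz, rfl⟩
      obtain ⟨m, hm, hm'⟩ := exists_dim_closure_fiber f s z
      have h2 : (m : Cardinal.{u}) ∈ (fun n : ℕ => (n : Cardinal.{u})) '' Φ := by
        rw [← h]
        exact ⟨_, ⟨f.fiberι s z, ⟨(mem_Ass_iff f F s z).mp hz, apply_fiberι f s z⟩, rfl⟩, hm⟩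
      obtain ⟨n, hn, hn'⟩ := h2
      have : n = m := by
        change (n : Cardinal.{u}) = m at hn'
        exact_mod_cast hn'
      subst this
      exact ⟨n, hn, hm'.symm⟩
    · rintro ⟨n, hn, rfl⟩
      change (n : WithBot ℕ∞) ∈ _
      rw [h1 n, h]
      exact ⟨n, hn, rfl⟩

end K119.InvAss
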