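import Groth.Agent.Cons9.K119.InvAss
import Groth.Agent.S1577
import Groth.Agent.S0020
import Mathlib.Topology.KrullDimension
import Mathlib.Topology.Homeomorph.Lemmas

/-!
# Irreducible components of the support and maximal associated points

* `mem_irreducibleComponents_iff`: for `T` closed in a sober space the irreducible components of `T` are the closures of the
  maximal points of `T`;
* `maximal_iff`: for `M` coherent on a locally Noetherian scheme, the maximal points of the support are the maximal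
  associated points;
* `image_dim_support_eq`: the dimensions of the irreducible components of the support of `F_s` in terms of `Inv f F s`.
-/

set_option autoImplicit false
universe u

namespace K119.SuppInv

open AlgebraicGeometry CategoryTheory CategoryTheory.Limits
open K119.BCAss K119.BCAss3 K119.GenFib K119.GenSch K119.InvAss Groth.Agent.CycB.RelDim

section Top

variable {W : Type*} [TopologicalSpace W] [QuasiSober W] [T0Space W] {T : Set W}

theorem mem_irreducibleComponents_iff (hT : IsClosed T) (Z : Set ↥T) :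
    Z ∈ irreducibleComponents ↥T ↔ ∃ z : ↥T, (∀ y ∈ T, y ⤳ z.1 → y = z.1) ∧ Z = closure {z} := by
  have hce : Topology.IsClosedEmbedding (Subtype.val : T → W) := hT.isClosedEmbedding_subtypeVal
  have hq : QuasiSober ↥T := hce.quasiSober
  constructor
  · intro hZ
    obtain ⟨z, hz⟩ := QuasiSober.sober hZ.1 (isClosed_of_mem_irreducibleComponents Z hZ)
    refine ⟨z, fun y hy hsp => ?_, hz.def.symm⟩
    have hsp' : (⟨y, hy⟩ : ↥T) ⤳ z := hce.isInducing.specializes_iff.mp hsp
    have h2 : Z ≤ closure {(⟨y, hy⟩ : ↥T)} := by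
      rw [← hz.def]
      exact specializes_iff_closure_subset.mp hsp'
    have h3 := hZ.2 (isIrreducible_singleton.closure : IsIrreducible (closure {(⟨y, hy⟩ : ↥T)})) h2
    have h4 : z ⤳ ⟨y, hy⟩ := by
      rw [specializes_iff_mem_closure, hz.def]
      exact h3 (subset_closure rfl)
    exact congr_arg Subtype.val (hsp'.antisymm h4).eq
  · rintro ⟨z, hz, rfl⟩
    refine ⟨isIrreducible_singleton.closure, fun Z' hZ' hle => ?_⟩
    obtain ⟨w, hw⟩ := QuasiSober.sober hZ'.closure isClosed_closure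
    have h1 : w ⤳ z := by
      rw [specializes_iff_mem_closure, hw.def]
      exact subset_closure (hle (subset_closure rfl))
    have h2 : w = z := Subtype.ext (hz w.1 w.2 (h1.map continuous_subtype_val))
    subst h2
    intro y hy
    rw [hw.def]
    exact subset_closure hy

theorem dim_closure_eq (hT : IsClosed T) (z : ↥T) :
    topologicalKrullDim ↥(closure ({z} : Set ↥T)) = topologicalKrullDim ↥(closure ({z.1} : Set W)) := by
  have hce : Topology.IsClosedEmbedding (Subtype.val : T → W) := hT.isClosedEmbedding_subtypeVal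
  have h1 : (Subtype.val : T → W) '' closure {z} = closure {z.1} := by
    rw [← hce.closure_image_eq, Set.image_singleton]
  rw [← h1]
  exact IsHomeomorph.topologicalKrullDim_eq _ (hce.isEmbedding.homeomorphImage (closure {z})).isHomeomorph

end Top

theorem mem_support_of_mem_Ass {X : Scheme.{u}} {M : X.Modules} {x : X} (h : x ∈ AssSch.Ass M) :
    x ∈ CohB1.support M := by
  obtain ⟨hp, m, hm⟩ := h
  intro hsub
  have : m = 0 := Subsingleton.elim _ _
  subst this
  apply hp.ne_top
  rw [hm, Ideal.radical_eq_top, Ideal.eq_top_iff_one, Submodule.mem_colon_singleton, smul_zero]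
  exact Submodule.zero_mem _

theorem exists_maximal_in {W : Type*} [TopologicalSpace W] [QuasiSober W] [T0Space W] {T : Set W} (hT : IsClosed T)
    {x : W} (hx : x ∈ T) : ∃ w ∈ T, w ⤳ x ∧ ∀ y ∈ T, y ⤳ w → y = w := by
  have hce : Topology.IsClosedEmbedding (Subtype.val : T → W) := hT.isClosedEmbedding_subtypeVal
  have hq : QuasiSober ↥T := hce.quasiSober
  obtain ⟨w, h1, h2⟩ := exists_maximal_generization (⟨x, hx⟩ : ↥T)
  refine ⟨w.1, w.2, h1.map continuous_subtype_val, fun y hy hsp => ?_⟩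
  exact congr_arg Subtype.val (h2 ⟨y, hy⟩ (hce.isInducing.specializes_iff.mp hsp))

theorem maximal_iff {X : Scheme.{u}} [IsLocallyNoetherian X] {M : X.Modules} (hM : Coh.IsCoh M) (x : X) :
    (x ∈ CohB1.support M ∧ ∀ y ∈ CohB1.support M, y ⤳ x → y = x) ↔
      (x ∈ AssSch.Ass M ∧ ∀ y ∈ AssSch.Ass M, y ⤳ x → y = x) := by
  have hcl : IsClosed (CohB1.support M) := Groth.Agent.S0020.result X M hM.2
  constructor
  · rintro ⟨h1, h2⟩
    exact ⟨Groth.Agent.S1577.result X M hM.1 x h1 h2, fun y hy => h2 y (mem_support_of_mem_Ass hy)⟩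
  · rintro ⟨h1, h2⟩
    have hx := mem_support_of_mem_Ass h1
    obtain ⟨w, hw, hwx, hmax⟩ := exists_maximal_in hcl hx
    have h3 := h2 w (Groth.Agent.S1577.result X M hM.1 w hw hmax) hwx
    subst h3
    exact ⟨hx, hmax⟩

/-- The dimensions of the irreducible components of the support of a fibre. -/
theorem image_dim_support_eq {X S : Scheme.{u}} (f : X ⟶ S) [LocallyOfFiniteType f] (F : X.Modules)
    (hF : CohB1.IsFP F) (s : S) (Φ : Set ℕ) :
    ((fun Z : Set ↥(CohB1.support ((Scheme.Modules.pullback (f.fiberι s)).obj F)) => topologicalKrullDim ↥Z) ''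
          irreducibleComponents ↥(CohB1.support ((Scheme.Modules.pullback (f.fiberι s)).obj F)) =
        (fun n : ℕ => (n : WithBot ℕ∞)) '' Φ) ↔
      Prod.fst '' {a ∈ Inv f F s | a.2} = (fun n : ℕ => (n : Cardinal.{u})) '' Φ := by
  set G := (Scheme.Modules.pullback (f.fiberι s)).obj F with hG
  have hGfp : CohB1.IsFP G := Groth.Agent.FormalA.PullbackQC.isFP_pullback _ _ hF
  have hGc : Coh.IsCoh G := Groth.Agent.Models2.FPCoh.isCoh_of_isFP hGfp
  have hN : IsLocallyNoetherian (f.fiber s) := isLocallyNoetherian_fiber f s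
  have hcl : IsClosed (CohB1.support G) := Groth.Agent.S0020.result _ G hGc.2
  -- maximal associated points
  have hmax : ∀ z : f.fiber s, (z ∈ CohB1.support G ∧ ∀ y ∈ CohB1.support G, y ⤳ z → y = z) ↔
      (f.fiberι s z ∈ MoreMor.relAss f F ∧ IsMax f F (f.fiberι s z)) := by
    intro z
    rw [maximal_iff hGc z, hG, mem_Ass_iff]
    refine and_congr Iff.rfl ⟨fun h y hy hfy hsp => ?_, fun h y hy hsp => ?_⟩
    · rw [apply_fiberι] at hfy
      obtain ⟨y, rfl⟩ := exists_fiberι f hfy
      rw [h y ((mem_Ass_iff f F s y).mpr hy) ((fiberι_specializes_iff f).mp hsp)]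
    · apply fiberι_injective f s
      exact h _ ((mem_Ass_iff f F s y).mp hy) (by rw [apply_fiberι, apply_fiberι])
        ((fiberι_specializes_iff f).mpr hsp)
  have h1 : ∀ c : WithBot ℕ∞, c ∈ (fun Z : Set ↥(CohB1.support G) => topologicalKrullDim ↥Z) ''
      irreducibleComponents ↥(CohB1.support G) ↔ ∃ z : f.fiber s, (f.fiberι s z ∈ MoreMor.relAss f F ∧
        IsMax f F (f.fiberι s z)) ∧ topologicalKrullDim ↥(closure ({z} : Set ↥(f.fiber s))) = c := by
    intro c
    constructor
    · rintro ⟨Z, hZ, rfl⟩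
      obtain ⟨z, hz, rfl⟩ := (mem_irreducibleComponents_iff hcl Z).mp hZ
      exact ⟨z.1, (hmax z.1).mp ⟨z.2, hz⟩, (dim_closure_eq hcl z).symm⟩
    · rintro ⟨z, hz, rfl⟩
      obtain ⟨h2, h3⟩ := (hmax z).mpr hz
      exact ⟨closure {(⟨z, h2⟩ : ↥(CohB1.support G))}, (mem_irreducibleComponents_iff hcl _).mpr ⟨⟨z, h2⟩, h3, rfl⟩,
        dim_closure_eq hcl ⟨z, h2⟩⟩
  have h2 : ∀ c : Cardinal.{u}, c ∈ Prod.fst '' {a ∈ Inv f F s | a.2} ↔
      ∃ z : f.fiber s, (f.fiberι s z ∈ MoreMor.relAss f F ∧ IsMax f F (f.fiberι s z)) ∧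
        rtd f (f.fiberι s z) = c := by
    intro c
    constructor
    · rintro ⟨_, ⟨⟨x, ⟨hx, hxs⟩, rfl⟩, hm⟩, rfl⟩
      obtain ⟨z, rfl⟩ := exists_fiberι f hxs
      exact ⟨z, ⟨hx, hm⟩, rfl⟩
    · rintro ⟨z, ⟨hx, hm⟩, rfl⟩
      exact ⟨_, ⟨⟨f.fiberι s z, ⟨hx, apply_fiberι f s z⟩, rfl⟩, hm⟩, rfl⟩
  have h3 : ∀ n : ℕ, (n : WithBot ℕ∞) ∈ (fun Z : Set ↥(CohB1.support G) => topologicalKrullDim ↥Z) ''
      irreducibleComponents ↥(CohB1.support G) ↔ (n : Cardinal.{u}) ∈ Prod.fst '' {a ∈ Inv f F s | a.2} := by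
    intro n
    rw [h1, h2]
    refine exists_congr fun z => and_congr Iff.rfl ?_
    obtain ⟨m, hm, hm'⟩ := exists_dim_closure_fiber f s z
    rw [hm, hm']
    exact ⟨fun h => by exact_mod_cast h, fun h => by exact_mod_cast h⟩
  constructor
  · intro h
    ext c
    constructor
    · intro hc
      obtain ⟨z, hz, rfl⟩ := (h2 c).mp hc
      obtain ⟨m, hm, hm'⟩ := exists_dim_closure_fiber f s z
      have h4 : (m : WithBot ℕ∞) ∈ (fun n : ℕ => (n : WithBot ℕ∞)) '' Φ := by
        rw [← h]
        exact (h1 _).mpr ⟨z, hz, hm'⟩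
      obtain ⟨n, hn, hn'⟩ := h4
      have : n = m := by
        change (n : WithBot ℕ∞) = m at hn'
        exact_mod_cast hn'
      subst this
      exact ⟨n, hn, hm.symm⟩
    · rintro ⟨n, hn, rfl⟩
      change (n : Cardinal.{u}) ∈ _
      rw [← h3 n, h]
      exact ⟨n, hn, rfl⟩
  · intro h
    ext c
    constructor
    · intro hc
      obtain ⟨z, hz, rfl⟩ := (h1 c).mp hc
      obtain ⟨m, hm, hm'⟩ := exists_dim_closure_fiber f s z
      have h4 : (m : Cardinal.{u}) ∈ (fun n : ℕ => (n : Cardinal.{u})) '' Φ := by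
        rw [← h]
        exact (h2 _).mpr ⟨z, hz, hm⟩
      obtain ⟨n, hn, hn'⟩ := h4
      have : n = m := by
        change (n : Cardinal.{u}) = m at hn'
        exact_mod_cast hn'
      subst this
      exact ⟨n, hn, hm'.symm⟩
    · rintro ⟨n, hn, rfl⟩
      change (n : WithBot ℕ∞) ∈ _
      rw [h3 n, h]
      exact ⟨n, hn, rfl⟩

end K119.SuppInv
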