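import Groth.Agent.Cons9.K119.InvAss
import Groth.Agent.Cons9.K119.SuppInv
import Groth.Agent.SDiv.K471.StalkPrimes

/-!
# Are the associated points of `F_s` generic points of the fibre? Torsion free modules on the fibres

* `GenInv f F s`: for the associated points of the fibre `F_s`, are they generic points of irreducible components of `X_s`?
* `fibInv`: this is a fibrewise invariant in the sense of `ConstrPair`.
* `torsion_eq_bot_iff`: on a locally integral locally Noetherian scheme a coherent module is torsion free iff its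
  associated points are maximal points.
* `torsion_eq_top_iff`: it is torsion iff the maximal points are not in the support.
-/

set_option autoImplicit false
universe u

namespace K119.InvGen

open AlgebraicGeometry CategoryTheory CategoryTheory.Limits
open K119.BCAss K119.BCAss3 K119.GenFib K119.GenSch K119.InvAss Groth.Agent.CycB.RelDim

theorem mem_relAss_struct_of_fibGeneric {X S : Scheme.{u}} (f : X ⟶ S) [LocallyOfFiniteType f] {x : X}
    (h : FibGeneric f x) : x ∈ MoreMor.relAss f (Coh.structureModule X) := by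
  have hN : IsLocallyNoetherian (f.fiber (f x)) := isLocallyNoetherian_fiber f _
  have h1 := mem_Ass_iff f (Coh.structureModule X) (f x) (f.asFiber x)
  rw [Scheme.Hom.fiberι_asFiber] at h1
  rw [← h1, Groth.Agent.S2513.mem_Ass_pullback_struct_iff]
  refine mem_Ass_struct_of_maximal _ fun z hz => ?_
  apply fiberι_injective f (f x)
  rw [Scheme.Hom.fiberι_asFiber]
  refine h _ (apply_fiberι f _ z) ?_
  have := hz.map (f.fiberι (f x)).continuous
  rwa [Scheme.Hom.fiberι_asFiber] at this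

theorem exists_fibGeneric {X S : Scheme.{u}} (f : X ⟶ S) (x : X) : ∃ w, f w = f x ∧ w ⤳ x ∧ FibGeneric f w := by
  obtain ⟨w, h1, h2, h3⟩ := exists_fiber_maximal f x
  exact ⟨w, h1, h2, fun x' hx' hsp => h3 x' (hx'.trans h1) hsp⟩

section BC

variable {X S X' S' : Scheme.{u}} {f : X ⟶ S} {f' : X' ⟶ S'} {g' : X' ⟶ X} {g : S' ⟶ S}
  (h : IsPullback g' f' f g)

include h

theorem fibGeneric_iff {x' : X'} (hx' : MaxOver g' f' x') : FibGeneric f' x' ↔ FibGeneric f (g' x') := by
  constructor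
  · intro hg y hy hsp
    obtain ⟨y', rfl, h2, h3⟩ := exists_goingDown h hy hsp
    rw [hg y' h2 h3]
  · intro hg y' hy' hsp
    refine hx' y' hy' (hg _ ?_ (hsp.map g'.continuous)) hsp
    rw [comm_apply h, comm_apply h, hy']

end BC

/-- The set of truth values of "`y` is a generic point of its fibre", for `y` an associated point of the fibre over `s`. -/
def GenInv {X S : Scheme.{u}} (f : X ⟶ S) (F : X.Modules) (s : S) : Set Prop :=
  (fun y => FibGeneric f y) '' {y | y ∈ MoreMor.relAss f F ∧ f y = s}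

section Gen

variable {X S : Scheme.{u}} {f : X ⟶ S} [LocallyOfFiniteType f] {F : X.Modules} {η : S} {V : S.Opens}
  (hg : SGood f F η V Set.univ) (hO : SGood f (Coh.structureModule X) η V Set.univ) {s : S} (hs : s ∈ V)

include hg hO hs

theorem fibGeneric_Mx_iff {ξ : X} (hξ : ξ ∈ MoreMor.relAss f F) (hη : f ξ = η) {z : f.fiber s}
    (hz : z ∈ Mx f s ξ) : FibGeneric f (f.fiberι s z) ↔ FibGeneric f ξ := by
  have hz' := (mem_Mx_iff hg hs hξ hη z).mp hz
  have hV : f (f.fiberι s z) ∈ V := by rw [apply_fiberι]; exact hs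
  constructor
  · intro hgen
    obtain ⟨ζ, h1, h2, h3⟩ := exists_fibGeneric f ξ
    have hζ := mem_relAss_struct_of_fibGeneric f h3
    have hζη : f ζ = η := h1.trans hη
    obtain ⟨x', h4, h5, h6, h7⟩ := hO.vi _ trivial hV ζ hζ hζη (h2.trans hz'.1)
    have h8 := hgen x' h4 h6
    subst h8
    rw [hz'.2] at h7
    have h9 : ζ = ξ := by
      by_contra hne
      have := rtd_lt_of_specializes f h2 hne h1
      rw [h7] at this
      exact lt_irrefl _ this
    rw [← h9]
    exact h3
  · intro hgen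
    have hξO := mem_relAss_struct_of_fibGeneric f hgen
    obtain ⟨w, h1, h2, h3⟩ := exists_fibGeneric f (f.fiberι s z)
    have hw := mem_relAss_struct_of_fibGeneric f h3
    obtain ⟨ζ, hζ, hζη, h4, h5⟩ := hO.i w trivial (by rw [h1]; exact hV) hw
    have h6 := hO.iv _ trivial hV ξ hξO hη ζ hζ hζη hz'.1 (h4.trans h2) hz'.2
    have h7 := hgen ζ (by rw [hη, hζη]) h6
    subst h7
    have h8 : w = f.fiberι s z := by
      by_contra hne
      have := rtd_lt_of_specializes f h2 hne h1
      rw [h5, hz'.2] at this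
      exact lt_irrefl _ this
    rw [← h8]
    exact h3

theorem genInv_eq : GenInv f F s = GenInv f F η := by
  ext p
  constructor
  · rintro ⟨x, ⟨hx, hxs⟩, rfl⟩
    obtain ⟨z, rfl⟩ := exists_fiberι f hxs
    obtain ⟨ξ, hξ, hη, hz⟩ := (mem_relAss_iff_Mx hg hs z).mp hx
    exact ⟨ξ, ⟨hξ, hη⟩, propext (fibGeneric_Mx_iff hg hO hs hξ hη hz).symm⟩
  · rintro ⟨ξ, ⟨hξ, hη⟩, rfl⟩
    obtain ⟨z, hz⟩ := exists_mem_Mx hg hs hξ hη
    exact ⟨f.fiberι s z, ⟨(mem_relAss_iff_Mx hg hs z).mpr ⟨ξ, hξ, hη, hz⟩, apply_fiberι f s z⟩,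
      propext (fibGeneric_Mx_iff hg hO hs hξ hη hz)⟩

end Gen

theorem fibInv : ConstrPair.FibInv.{u} (fun {_ _} f F s => GenInv f F s) where
  iso f _ F F' e y := by
    unfold GenInv
    rw [relAss_congr f e.some]
  bc {X Y X' Y'} f _ f' g' g F _ h y' := by
    ext p
    constructor
    · rintro ⟨x', ⟨hx', hxy⟩, rfl⟩
      have h1 := (mem_relAss_iff h F x').mp hx'
      exact ⟨g' x', ⟨h1.1, by rw [comm_apply h, hxy]⟩, propext (fibGeneric_iff h h1.2).symm⟩
    · rintro ⟨y, ⟨hy, hyy⟩, rfl⟩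
      obtain ⟨x', rfl, h2, h3⟩ := exists_maxOver_point h hyy
      exact ⟨x', ⟨(mem_relAss_iff h F x').mpr ⟨hy, h3⟩, h2⟩, propext (fibGeneric_iff h h3)⟩
  gen {X Y} f _ _ _ _ F hF := by
    obtain ⟨V, hη, hg⟩ := exists_good f F hF
    have hXN : IsLocallyNoetherian X := LocallyOfFiniteType.isLocallyNoetherian f
    obtain ⟨V', hη', hg'⟩ := exists_good f (Coh.structureModule X) (Groth.Agent.Fdesc.StructMod.isCoh_structureModule X)
    exact ⟨V ⊓ V', ⟨hη, hη'⟩, fun y hy => genInv_eq (hg.mono inf_le_left) (hg'.mono inf_le_right) hy⟩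

theorem forall_genInv {X S : Scheme.{u}} (f : X ⟶ S) (F : X.Modules) (s : S) (Q : Prop → Prop) :
    (∀ p ∈ GenInv f F s, Q p) ↔ ∀ z ∈ AssSch.Ass ((Scheme.Modules.pullback (f.fiberι s)).obj F),
      Q (∀ z' : f.fiber s, z' ⤳ z → z' = z) := by
  have key : ∀ z : f.fiber s, FibGeneric f (f.fiberι s z) ↔ ∀ z' : f.fiber s, z' ⤳ z → z' = z := by
    intro z
    constructor
    · intro h z' hz'
      apply fiberι_injective f s
      exact h _ (by rw [apply_fiberι, apply_fiberι]) ((fiberι_specializes_iff f).mpr hz')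
    · intro h x hx hsp
      rw [apply_fiberι] at hx
      obtain ⟨z', rfl⟩ := exists_fiberι f hx
      rw [h z' ((fiberι_specializes_iff f).mp hsp)]
  constructor
  · intro h z hz
    have := h _ ⟨f.fiberι s z, ⟨(mem_Ass_iff f F s z).mp hz, apply_fiberι f s z⟩, rfl⟩
    simpa only [key z] using this
  · rintro h _ ⟨x, ⟨hx, hxs⟩, rfl⟩
    obtain ⟨z, rfl⟩ := exists_fiberι f hxs
    simpa only [key z] using h z ((mem_Ass_iff f F s z).mpr hx)

/-- Local constructibility over a locally Noetherian base. -/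
theorem isLocallyConstructible_of_noetherian {X S : Scheme.{u}} (f : X ⟶ S) [IsLocallyNoetherian S]
    [LocallyOfFiniteType f] [QuasiCompact f] (F : X.Modules) (hF : CohB1.IsFP F) (Q : Prop → Prop) :
    Topology.IsLocallyConstructible {s : S | ∀ z ∈ AssSch.Ass ((Scheme.Modules.pullback (f.fiberι s)).obj F),
      Q (∀ z' : f.fiber s, z' ⤳ z → z' = z)} := by
  have h := ConstrPair.isLocallyConstructible_of_noetherian fibInv f F hF {A | ∀ p ∈ A, Q p}
  simp only [← forall_genInv]
  exact h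

section Torsion

open K471.StalkPrimes

variable {W : Scheme.{u}} [IsLocallyNoetherian W] {G : W.Modules} (hG : Coh.IsQCoh G)
  (hdom : ∀ x : W, IsDomain (W.presheaf.stalk x))

include hG hdom

theorem torsion_eq_bot_iff : (∀ x : W, Submodule.torsion (W.presheaf.stalk x) (G.presheaf.stalk x) = ⊥) ↔
    ∀ y ∈ AssSch.Ass G, ∀ y', y' ⤳ y → y' = y := by
  constructor
  · intro h y hy y' hsp
    have hd := hdom y
    obtain ⟨hp, m, hm⟩ := (isAssociatedPrime_iff.mp hy : _)
    have hmax : IsLocalRing.maximalIdeal (W.presheaf.stalk y) = ⊥ := by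
      rw [eq_bot_iff]
      intro a ha
      by_contra ha0
      rw [hm, Submodule.mem_colon_singleton, Submodule.mem_bot] at ha
      have h1 : m ∈ Submodule.torsion (W.presheaf.stalk y) (G.presheaf.stalk y) :=
        ⟨⟨a, mem_nonZeroDivisors_of_ne_zero ha0⟩, ha⟩
      rw [h y, Submodule.mem_bot] at h1
      subst h1
      apply hp.ne_top
      rw [hm, Ideal.eq_top_iff_one, Submodule.mem_colon_singleton, smul_zero]
      exact Submodule.zero_mem _
    obtain ⟨U, hU, hyU, -⟩ := exists_isAffineOpen_mem_and_subset (X := W) (x := y) (U := ⊤) trivial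
    obtain ⟨hy'U, Q, hQ⟩ := exists_prime_of_specializes hU hyU hsp
    refine (eq_iff_of_below hU hyU hy'U Q hQ).mpr ?_
    apply PrimeSpectrum.ext
    apply le_antisymm (IsLocalRing.le_maximalIdeal Q.isPrime.ne_top)
    change IsLocalRing.maximalIdeal _ ≤ _
    rw [hmax]
    exact bot_le
  · intro h x
    rw [eq_bot_iff]
    rintro m ⟨⟨a, ha⟩, ham⟩
    rw [Submodule.mem_bot]
    by_contra hm
    have hd := hdom x
    obtain ⟨P, hP, hle⟩ := exists_le_isAssociatedPrime_of_isNoetherianRing (W.presheaf.stalk x) m hm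
    have haP : a ∈ P := hle (by rw [Submodule.mem_colon_singleton]; exact ham)
    obtain ⟨U, hU, hxU, -⟩ := exists_isAffineOpen_mem_and_subset (X := W) (x := x) (U := ⊤) trivial
    obtain ⟨y, hyU, hyx, hy⟩ := exists_point_of_prime hU hxU ⟨P, hP.isPrime⟩
    have hyA : y ∈ AssSch.Ass G := (isAssPoint_iff hU hxU hG hyU ⟨P, hP.isPrime⟩ hy).mpr hP
    obtain ⟨y₀, hy₀U, hy₀x, hy₀⟩ := exists_point_of_prime hU hxU (⟨⊥, Ideal.isPrime_bot⟩ : PrimeSpectrum _)
    have hsp : y₀ ⤳ y := by
      rw [Groth.Agent.Fdesc.AssPoints.specializes_iff hU y₀ y hy₀U hyU, ← hy₀, ← hy]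
      exact Ideal.comap_mono bot_le
    have h2 := h y hyA y₀ hsp
    subst h2
    have h3 := below_injective hU hxU (hy₀.trans hy.symm)
    have h4 : (⊥ : Ideal (W.presheaf.stalk x)) = P := congr_arg PrimeSpectrum.asIdeal h3
    rw [← h4, Ideal.mem_bot] at haP
    exact nonZeroDivisors.ne_zero ha haP

theorem torsion_eq_top_iff : (∀ x : W, Submodule.torsion (W.presheaf.stalk x) (G.presheaf.stalk x) = ⊤) ↔
    ∀ y ∈ AssSch.Ass G, ¬ ∀ y', y' ⤳ y → y' = y := by
  constructor
  · intro h y hy hmaxy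
    have hd := hdom y
    obtain ⟨hp, m, hm⟩ := (isAssociatedPrime_iff.mp hy : _)
    -- the local ring is a field
    have hmax : ∀ a ∈ IsLocalRing.maximalIdeal (W.presheaf.stalk y), a = 0 := by
      obtain ⟨U, hU, hyU, -⟩ := exists_isAffineOpen_mem_and_subset (X := W) (x := y) (U := ⊤) trivial
      obtain ⟨y₀, hy₀U, hy₀x, hy₀⟩ := exists_point_of_prime hU hyU (⟨⊥, Ideal.isPrime_bot⟩ : PrimeSpectrum _)
      have h1 := (eq_iff_of_below hU hyU hy₀U _ hy₀).mp (hmaxy y₀ hy₀x)
      have h2 : (⊥ : Ideal (W.presheaf.stalk y)) = IsLocalRing.maximalIdeal _ := congr_arg PrimeSpectrum.asIdeal h1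
      intro a ha
      rwa [← h2, Ideal.mem_bot] at ha
    have hmt : m ∈ Submodule.torsion (W.presheaf.stalk y) (G.presheaf.stalk y) := by rw [h y]; trivial
    obtain ⟨⟨a, ha⟩, ham⟩ := hmt
    have hau : a ∉ IsLocalRing.maximalIdeal (W.presheaf.stalk y) := fun h => nonZeroDivisors.ne_zero ha (hmax a h)
    apply hau
    rw [hm, Submodule.mem_colon_singleton]
    exact ham
  · intro h x
    rw [eq_top_iff]
    rintro m -
    by_contra hm
    have hd := hdom x
    have hann : ∀ a : W.presheaf.stalk x, a • m = 0 → a = 0 := by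
      intro a ha
      by_contra ha0
      exact hm ⟨⟨a, mem_nonZeroDivisors_of_ne_zero ha0⟩, ha⟩
    obtain ⟨U, hU, hxU, -⟩ := exists_isAffineOpen_mem_and_subset (X := W) (x := x) (U := ⊤) trivial
    obtain ⟨y₀, hy₀U, hy₀x, hy₀⟩ := exists_point_of_prime hU hxU (⟨⊥, Ideal.isPrime_bot⟩ : PrimeSpectrum _)
    have hA : y₀ ∈ AssSch.Ass G := by
      refine (isAssPoint_iff hU hxU hG hy₀U _ hy₀).mpr ?_
      refine isAssociatedPrime_iff.mpr ⟨Ideal.isPrime_bot, m, ?_⟩
      ext a
      rw [Submodule.mem_colon_singleton, Submodule.mem_bot]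
      change a ∈ (⊥ : Ideal _) ↔ _
      rw [Ideal.mem_bot]
      refine ⟨fun h => ?_, hann a⟩
      rw [h, zero_smul]
      exact Submodule.zero_mem _
    refine h y₀ hA fun y' hy' => ?_
    have hy'x := hy'.trans hy₀x
    obtain ⟨hy'U, Q, hQ⟩ := exists_prime_of_specializes hU hxU hy'x
    have h1 : hU.primeIdealOf ⟨y', hy'U⟩ ≤ hU.primeIdealOf ⟨y₀, hy₀U⟩ :=
      (Groth.Agent.Fdesc.AssPoints.specializes_iff hU y' y₀ hy'U hy₀U).mp hy'
    have h2 : y₀ ⤳ y' := by
      rw [Groth.Agent.Fdesc.AssPoints.specializes_iff hU y₀ y' hy₀U hy'U, ← hy₀, ← hQ]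
      exact Ideal.comap_mono bot_le
    exact (hy'.antisymm h2).eq

end Torsion

end K119.InvGen
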